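import Groth.Prelude.Def_WeilCoh
import Groth.Agent.BMCoh.Height
import Groth.Agent.Unibranch.Noether
import Mathlib.FieldTheory.IsAlgClosed.Basic

/-!
# Dimension of the closure of a point over a field = transcendence degree of its residue field
-/

universe u

set_option backward.isDefEq.respectTransparency false
set_option linter.style.haveILetI false

open CategoryTheory AlgebraicGeometry Topology

namespace Groth.Agent.WeilLib

variable {k : Type u} [Field k]

/-- For a finitely generated domain inside a field of fractions: `trdeg = dim`. -/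
theorem exists_dim_eq_trdeg {D L : Type u} [CommRing D] [IsDomain D] [Algebra k D]
    [Algebra.FiniteType k D] [Field L] [Algebra k L] (ψ : D →ₐ[k] L) (hψ : Function.Injective ψ)
    (hfrac : ∀ z : L, ∃ b d : D, ψ d ≠ 0 ∧ z * ψ d = ψ b) :
    ∃ s : ℕ, Algebra.trdeg k L = s ∧ ringKrullDim D = s := by
  obtain ⟨s, g, hgi, hgf⟩ := exists_finite_inj_algHom_of_fg k D
  refine ⟨s, ?_, Unibranch.ringKrullDim_eq_of_finite_inj g hgi hgf⟩
  let P := MvPolynomial (Fin s) k
  letI := g.toRingHom.toAlgebra
  haveI : Module.Finite P D := hgf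
  haveI : IsScalarTower k P D := IsScalarTower.of_algebraMap_eq fun a ↦ (g.commutes a).symm
  letI := (ψ.comp g).toRingHom.toAlgebra
  haveI : IsScalarTower k P L := IsScalarTower.of_algebraMap_eq fun a ↦ ((ψ.comp g).commutes a).symm
  have hinj : Function.Injective (algebraMap P L) := hψ.comp hgi
  haveI : FaithfulSMul P L := (faithfulSMul_iff_algebraMap_injective P L).mpr hinj
  let ψ' : D →ₐ[P] L := { ψ.toRingHom with commutes' := fun _ ↦ rfl }
  haveI : Algebra.IsAlgebraic P L := by
    refine ⟨fun z ↦ ?_⟩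
    obtain ⟨b, d, hd, hz⟩ := hfrac z
    have h : z = ψ' b * (ψ' d)⁻¹ := by
      change z = ψ b * (ψ d)⁻¹
      rw [← hz, mul_inv_cancel_right₀ hd]
    rw [h]
    have hA : ∀ e : D, IsAlgebraic P (ψ' e) := fun e ↦
      (Algebra.IsIntegral.isIntegral (R := P) e).isAlgebraic.algHom ψ'
    exact (hA b).mul (hA d).inv
  have h := trdeg_add_eq k P (A := L)
  rw [trdeg_eq_zero (R := P) (A := L), add_zero, MvPolynomial.trdeg_of_isDomain] at h
  simpa using h.symm

variable {X : Scheme.{u}} (f : X ⟶ Spec (CommRingCat.of k))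

/-- The structure map `k → Γ(X, W)`. -/
noncomputable def secStr (W : X.Opens) : k →+* Γ(X, W) :=
  ((Scheme.ΓSpecIso (CommRingCat.of k)).inv ≫ f.appLE ⊤ W le_top).hom

/-- The structure map `k → κ(x)`. -/
noncomputable def kStr (x : X) : k →+* X.residueField x :=
  (X.evaluation ⊤ x trivial).hom.comp (secStr f ⊤)

theorem evaluation_comp_secStr {W : X.Opens} {x : X} (hx : x ∈ W) :
    (X.evaluation W x hx).hom.comp (secStr f W) = kStr f x := by
  have h : f.appLE ⊤ W le_top ≫ X.evaluation W x hx =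
      f.appLE ⊤ ⊤ le_top ≫ X.evaluation ⊤ x trivial := by
    rw [← f.appLE_map (U := ⊤) (V := ⊤) le_top (homOfLE (le_top : W ≤ ⊤)).op, Category.assoc]
    congr 1
    rw [Scheme.evaluation, Scheme.evaluation, TopCat.Presheaf.germ_res_assoc]
  exact congrArg CommRingCat.Hom.hom (congrArg ((Scheme.ΓSpecIso (CommRingCat.of k)).inv ≫ ·) h)

theorem finiteType_secStr [LocallyOfFiniteType f] {W : X.Opens} (hW : IsAffineOpen W) :
    (secStr f W).FiniteType := by
  have h1 := f.finiteType_appLE (isAffineOpen_top _) hW le_top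
  exact RingHom.FiniteType.comp h1 (RingHom.FiniteType.of_surjective _
    (Scheme.ΓSpecIso (CommRingCat.of k)).symm.commRingCatIsoToRingEquiv.surjective)

/-- The transcendence degree of `κ(x)` over `k`. -/
noncomputable def trd (x : X) : Cardinal.{u} :=
  letI := (kStr f x).toAlgebra
  Algebra.trdeg k (X.residueField x)

noncomputable local instance specOrd (X : Scheme.{u}) : PartialOrder X := specializationOrder X

/-- `trdeg κ(x)` is the height of `x` in the specialization order. -/
theorem exists_height_eq_trd [LocallyOfFiniteType f] (x : X) :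
    ∃ s : ℕ, trd f x = s ∧ Order.height x = s := by
  obtain ⟨W₀, hW₀, hxW₀, -⟩ :=
    exists_isAffineOpen_mem_and_subset (X := X) (x := x) (U := ⊤) trivial
  have key : ∀ (W : X.Opens) (hW : IsAffineOpen W) (hxW : x ∈ W),
      ∃ s : ℕ, trd f x = s ∧
        ringKrullDim (Γ(X, W) ⧸ (hW.primeIdealOf ⟨x, hxW⟩).asIdeal) = s := by
    intro W hW hxW
    letI := (secStr f W).toAlgebra
    haveI : Algebra.FiniteType k Γ(X, W) := finiteType_secStr f hW
    letI := (kStr f x).toAlgebra
    let q := (hW.primeIdealOf ⟨x, hxW⟩).asIdeal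
    let ι : Γ(X, W) →ₐ[k] X.residueField x :=
      { (X.evaluation W x hxW).hom with
        commutes' := RingHom.congr_fun (evaluation_comp_secStr f hxW) }
    have hker : RingHom.ker ι = q := by
      let := X.presheaf.algebra_section_stalk ⟨x, hxW⟩
      have := hW.isLocalization_stalk ⟨x, hxW⟩
      show RingHom.ker ((IsLocalRing.residue (X.presheaf.stalk x)).comp
        (algebraMap Γ(X, W) (X.presheaf.stalk x))) = _
      rw [← RingHom.comap_ker, IsLocalRing.ker_residue]
      exact IsLocalization.AtPrime.under_maximalIdeal (X.presheaf.stalk x) _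
    let ψ : (Γ(X, W) ⧸ q) →ₐ[k] X.residueField x := Ideal.Quotient.liftₐ q ι fun a ha ↦ by
      rwa [← hker, RingHom.mem_ker] at ha
    haveI : Algebra.FiniteType k (Γ(X, W) ⧸ q) :=
      .trans (R := k) (S := Γ(X, W)) inferInstance inferInstance
    refine exists_dim_eq_trdeg ψ ?_ ?_
    · rw [injective_iff_map_eq_zero]
      intro a ha
      obtain ⟨a, rfl⟩ := Ideal.Quotient.mk_surjective a
      rw [Ideal.Quotient.eq_zero_iff_mem]
      exact hker.le ha
    · intro z
      obtain ⟨z, rfl⟩ := IsLocalRing.residue_surjective z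
      let := X.presheaf.algebra_section_stalk ⟨x, hxW⟩
      have := hW.isLocalization_stalk ⟨x, hxW⟩
      obtain ⟨⟨b, d⟩, hbd⟩ := IsLocalization.surj (hW.primeIdealOf ⟨x, hxW⟩).asIdeal.primeCompl z
      refine ⟨Ideal.Quotient.mk q b, Ideal.Quotient.mk q d, fun h ↦ d.2 ?_, ?_⟩
      · exact hker.le (show ι d = 0 from h)
      · show IsLocalRing.residue _ z * IsLocalRing.residue _
            (algebraMap Γ(X, W) (X.presheaf.stalk x) d) =
          IsLocalRing.residue _ (algebraMap Γ(X, W) (X.presheaf.stalk x) b)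
        rw [← map_mul, hbd]
  obtain ⟨s, hs, hdim⟩ := key W₀ hW₀ hxW₀
  refine ⟨s, hs, le_antisymm (Order.height_le fun p hp ↦ ?_) ?_⟩
  · obtain ⟨W, hW, hpW, -⟩ :=
      exists_isAffineOpen_mem_and_subset (X := X) (x := p.head) (U := ⊤) trivial
    have hmem : ∀ i, p i ∈ W := fun i ↦
      ((p.monotone (Fin.zero_le i) : p 0 ≤ p i) : p i ⤳ p 0).mem_open W.2 hpW
    have hxW : x ∈ W := hp ▸ hmem (Fin.last _)
    obtain ⟨t, ht, hdim'⟩ := key W hW hxW
    obtain rfl : t = s := by exact_mod_cast ht.symm.trans hs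
    let q := hW.primeIdealOf ⟨x, hxW⟩
    let e := (Ideal.Quotient.mk q.asIdeal)
    have hord : ∀ {a b : X} (ha : a ∈ W) (hb : b ∈ W), a ≤ b →
        hW.primeIdealOf ⟨b, hb⟩ ≤ hW.primeIdealOf ⟨a, ha⟩ := by
      intro a b ha hb hab
      refine (PrimeSpectrum.le_iff_specializes _ _).mpr ?_
      refine (hW.fromSpec.isOpenEmbedding.isInducing.specializes_iff).mp ?_
      rw [hW.fromSpec_primeIdealOf, hW.fromSpec_primeIdealOf]
      exact hab
    have hq : ∀ i, q.asIdeal ≤ (hW.primeIdealOf ⟨p i, hmem i⟩).asIdeal := fun i ↦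
      hord (hmem i) hxW (hp ▸ p.monotone (Fin.le_last i))
    have hsurj : Function.Surjective e := Ideal.Quotient.mk_surjective
    let F : Fin (p.length + 1) → PrimeSpectrum (Γ(X, W) ⧸ q.asIdeal) := fun i ↦
      ⟨(hW.primeIdealOf ⟨p i.rev, hmem _⟩).asIdeal.map e,
        Ideal.map_isPrime_of_surjective hsurj (by rw [Ideal.mk_ker]; exact hq _)⟩
    have hF : ∀ i, (F i).asIdeal.comap e = (hW.primeIdealOf ⟨p i.rev, hmem _⟩).asIdeal := fun i ↦ by
      rw [Ideal.comap_map_of_surjective _ hsurj, ← RingHom.ker_eq_comap_bot, Ideal.mk_ker,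
        sup_eq_left.mpr (hq _)]
    have hlt : ∀ i : Fin p.length, F i.castSucc < F i.succ := by
      intro i
      have hpl : p i.succ.rev < p i.castSucc.rev := p.strictMono (Fin.rev_lt_rev.mpr i.castSucc_lt_succ)
      refine lt_of_le_of_ne (Ideal.map_mono (hord (hmem _) (hmem _) hpl.le)) fun heq ↦ hpl.ne ?_
      have h1 := (hF i.castSucc).symm.trans ((congrArg (fun P : PrimeSpectrum _ ↦ P.asIdeal.comap e) heq).trans (hF i.succ))
      have h2 := congrArg hW.fromSpec (PrimeSpectrum.ext h1)
      exact ((hW.fromSpec_primeIdealOf _).symm.trans (h2.trans (hW.fromSpec_primeIdealOf _))).symm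
    have h := Order.le_krullDim_iff.mpr ⟨⟨p.length, F, hlt⟩, rfl⟩
    change (p.length : WithBot ℕ∞) ≤ ringKrullDim _ at h
    rw [hdim'] at h
    exact_mod_cast h
  · let q := hW₀.primeIdealOf ⟨x, hxW₀⟩
    obtain ⟨l, hl⟩ := Order.le_krullDim_iff.mp
      (show (s : WithBot ℕ∞) ≤ Order.krullDim (PrimeSpectrum (Γ(X, W₀) ⧸ q.asIdeal)) from hdim.ge)
    let G : PrimeSpectrum (Γ(X, W₀) ⧸ q.asIdeal) → X := fun P ↦
      hW₀.fromSpec (PrimeSpectrum.comap (Ideal.Quotient.mk q.asIdeal) P)
    have hG : ∀ {P Q : PrimeSpectrum (Γ(X, W₀) ⧸ q.asIdeal)}, P < Q → G Q < G P := by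
      intro P Q h
      have h' : PrimeSpectrum.comap (Ideal.Quotient.mk q.asIdeal) P ≤
          PrimeSpectrum.comap (Ideal.Quotient.mk q.asIdeal) Q := fun a ha ↦ h.le ha
      have hs : G P ⤳ G Q :=
        ((PrimeSpectrum.le_iff_specializes _ _).mp h').map hW₀.fromSpec.continuous
      refine lt_of_le_of_ne hs fun heq ↦ h.ne ?_
      exact PrimeSpectrum.comap_injective_of_surjective _ Ideal.Quotient.mk_surjective
        (hW₀.fromSpec.isOpenEmbedding.injective heq).symm
    let m : LTSeries X := ⟨l.length, fun i ↦ G (l i.rev),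
      fun i ↦ hG (l.strictMono (Fin.rev_lt_rev.mpr i.castSucc_lt_succ))⟩
    have hlast : m.last ≤ x := by
      have h1 : q ≤ PrimeSpectrum.comap (Ideal.Quotient.mk q.asIdeal) (l 0) := fun a ha ↦
        Ideal.mem_comap.mpr (by rw [Ideal.Quotient.eq_zero_iff_mem.mpr ha]; exact zero_mem _)
      have h2 := ((PrimeSpectrum.le_iff_specializes _ _).mp h1).map hW₀.fromSpec.continuous
      rw [hW₀.fromSpec_primeIdealOf] at h2
      show x ⤳ G (l (Fin.last l.length).rev)
      rw [Fin.rev_last]
      exact h2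
    have := Order.length_le_height hlast
    rwa [show m.length = s from hl] at this

theorem exists_pdim_eq_trd [LocallyOfFiniteType f] (x : X) :
    trd f x = (WeilCoh.pdim X x : Cardinal.{u}) ∧ Order.height x = (WeilCoh.pdim X x : ℕ∞) := by
  obtain ⟨s, hs, hh⟩ := exists_height_eq_trd f x
  have : WeilCoh.pdim X x = s := by
    rw [WeilCoh.pdim, WeilCoh.natDim, BMCoh.topologicalKrullDim_closure_singleton, hh]
    rfl
  rw [this]
  exact ⟨hs, hh⟩

theorem pdim_lt [LocallyOfFiniteType f] {x y : X} (h : y ⤳ x) (hne : x ≠ y) :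
    WeilCoh.pdim X x < WeilCoh.pdim X y := by
  have hfin : Order.height x < ⊤ := by
    rw [(exists_pdim_eq_trd f x).2]; exact ENat.natCast_lt_top _
  have := Order.height_strictMono (lt_of_le_of_ne h hne : x < y) hfin
  rw [(exists_pdim_eq_trd f x).2, (exists_pdim_eq_trd f y).2] at this
  exact_mod_cast this

theorem pdim_le [LocallyOfFiniteType f] {x y : X} (h : y ⤳ x) :
    WeilCoh.pdim X x ≤ WeilCoh.pdim X y := by
  rcases eq_or_ne x y with rfl | hne
  · rfl
  · exact (pdim_lt f h hne).le

theorem pdim_eq_zero_iff [LocallyOfFiniteType f] (x : X) :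
    WeilCoh.pdim X x = 0 ↔ IsClosed ({x} : Set X) := by
  constructor
  · intro h
    refine isClosed_of_closure_subset fun y hy ↦ ?_
    by_contra hne
    have := pdim_lt f (specializes_iff_mem_closure.mpr hy) hne
    omega
  · intro h
    have := (exists_pdim_eq_trd f x).2
    have h0 : Order.height x = 0 := by
      rw [Order.height_eq_zero]
      intro y hy
      rcases (h.stableUnderSpecialization (show x ⤳ y from hy) rfl : y = x) with rfl
      exact le_rfl
    rw [h0] at this
    exact_mod_cast this.symm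

/-- Over an algebraically closed field closed points are rational. -/
theorem kStr_bijective [IsAlgClosed k] [LocallyOfFiniteType f] {x : X} (hx : IsClosed ({x} : Set X)) :
    Function.Bijective (kStr f x) := by
  letI := (kStr f x).toAlgebra
  have h := (exists_pdim_eq_trd f x).1
  rw [(pdim_eq_zero_iff f x).mpr hx, Nat.cast_zero] at h
  haveI : Algebra.IsAlgebraic k (X.residueField x) := trdeg_eq_zero_iff.mp h
  exact IsAlgClosed.algebraMap_bijective_of_isIntegral

variable {Y : Scheme.{u}} (g : X ⟶ Y) (fY : Y ⟶ Spec (CommRingCat.of k))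

theorem kStr_comp (hg : g ≫ fY = f) (x : X) :
    (g.residueFieldMap x).hom.comp (kStr fY (g x)) = kStr f x := by
  subst hg
  ext a
  refine (Scheme.evaluation_naturality_apply g (V := ⊤) x trivial (secStr fY ⊤ a)).trans ?_
  show X.evaluation ⊤ x trivial (g.app ⊤ (secStr fY ⊤ a)) = X.evaluation ⊤ x trivial (secStr (g ≫ fY) ⊤ a)
  congr 1
  show g.app ⊤ (fY.appLE ⊤ ⊤ le_top ((Scheme.ΓSpecIso (CommRingCat.of k)).inv a)) =
    (g ≫ fY).appLE ⊤ ⊤ le_top ((Scheme.ΓSpecIso (CommRingCat.of k)).inv a)
  rw [← Scheme.Hom.appLE_comp_appLE g fY ⊤ ⊤ ⊤ le_top le_top]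
  show g.app ⊤ _ = g.appLE ⊤ ⊤ le_top _
  congr 2
  exact (Scheme.Hom.appLE_eq_app _).symm

/-- A finite residue extension preserves the dimension of the closure. -/
theorem pdim_eq_of_residueDegree_ne_zero [LocallyOfFiniteType f] [LocallyOfFiniteType fY]
    (hg : g ≫ fY = f) {x : X} (hdeg : g.residueDegree x ≠ 0) :
    WeilCoh.pdim Y (g x) = WeilCoh.pdim X x := by
  letI := (kStr fY (g x)).toAlgebra
  letI := (kStr f x).toAlgebra
  letI := (g.residueFieldMap x).hom.toAlgebra
  haveI : IsScalarTower k (Y.residueField (g x)) (X.residueField x) :=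
    IsScalarTower.of_algebraMap_eq fun a ↦ (RingHom.congr_fun (kStr_comp f g fY hg x) a).symm
  haveI : FiniteDimensional (Y.residueField (g x)) (X.residueField x) :=
    Module.finite_of_finrank_pos (Nat.pos_of_ne_zero hdeg)
  have h := trdeg_add_eq k (Y.residueField (g x)) (A := X.residueField x)
  rw [trdeg_eq_zero (R := Y.residueField (g x)) (A := X.residueField x), add_zero] at h
  have h1 := (exists_pdim_eq_trd f x).1
  have h2 := (exists_pdim_eq_trd fY (g x)).1
  exact Nat.cast_injective (R := Cardinal.{u}) ((h2.symm.trans h).trans h1)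

/-- The weight function attached to the zero function on the base is the dimension of the closure. -/
theorem eq_pdim_of_deltaCompat [LocallyOfFiniteType f] (δ : X → ℤ)
    (hδ : Cyc.DeltaCompat f δ (fun _ => 0)) (x : X) : δ x = WeilCoh.pdim X x := by
  obtain ⟨n, hn, hx⟩ := hδ x
  rw [hx, zero_add]
  letI := (kStr (𝟙 _) (f x)).toAlgebra
  letI := (kStr f x).toAlgebra
  letI := (f.residueFieldMap x).hom.toAlgebra
  haveI : IsScalarTower k ((Spec (CommRingCat.of k)).residueField (f x)) (X.residueField x) :=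
    IsScalarTower.of_algebraMap_eq fun a ↦
      (RingHom.congr_fun (kStr_comp f f (𝟙 _) (Category.comp_id f) x) a).symm
  have h0 : WeilCoh.pdim (Spec (CommRingCat.of k)) (f x) = 0 :=
    (pdim_eq_zero_iff (𝟙 _) _).mpr (isClosed_singleton (x := f x))
  have hb := (exists_pdim_eq_trd (𝟙 _) (f x)).1
  rw [h0, Nat.cast_zero] at hb
  have h := trdeg_add_eq k ((Spec (CommRingCat.of k)).residueField (f x))
    (A := X.residueField x)
  rw [show Algebra.trdeg k ((Spec (CommRingCat.of k)).residueField (f x)) = 0 from hb, zero_add,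
    hn] at h
  exact_mod_cast congrArg (Nat.cast : ℕ → ℤ)
    (Nat.cast_injective (R := Cardinal.{u}) (h.trans (exists_pdim_eq_trd f x).1))

end Groth.Agent.WeilLib
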