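import Groth.Prelude.Def_Frob
import Mathlib.AlgebraicGeometry.AffineScheme
import Mathlib.FieldTheory.Perfect
import Mathlib.FieldTheory.Finite.Basic

/-!
# Iterates of the absolute Frobenius, and Frobenius base-changed from a finite field
-/

universe u

set_option backward.isDefEq.respectTransparency false
set_option linter.style.haveILetI false

open CategoryTheory CategoryTheory.Limits AlgebraicGeometry FrobSch

namespace Groth.Agent.WeilLib

variable {X Y : Scheme.{u}} (p : ℕ) [Fact p.Prime]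

/-- The `e`-th iterate of the absolute Frobenius. -/
noncomputable def frobPow (X : Scheme.{u}) [IsCharP X p] : ℕ → (X ⟶ X)
  | 0 => 𝟙 X
  | e + 1 => frobPow X e ≫ frob X p

theorem frobPow_apply [IsCharP X p] (e : ℕ) (x : X) : frobPow p X e x = x := by
  induction e with
  | zero => rfl
  | succ e ih => rw [frobPow, Scheme.Hom.comp_apply, ih, frob_apply]

theorem frobPow_preimage [IsCharP X p] (e : ℕ) (U : X.Opens) : frobPow p X e ⁻¹ᵁ U = U := by
  ext x
  show frobPow p X e x ∈ U ↔ x ∈ U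
  rw [frobPow_apply]

theorem frobPow_app [IsCharP X p] (e : ℕ) (U V : X.Opens) (h : V ≤ frobPow p X e ⁻¹ᵁ U)
    (h' : V ≤ U) (s : Γ(X, U)) :
    (frobPow p X e).appLE U V h s = (X.presheaf.map (homOfLE h').op s) ^ (p ^ e) := by
  induction e generalizing U V with
  | zero =>
    rw [pow_zero, pow_one]
    simp [frobPow, Scheme.Hom.appLE]
  | succ e ih =>
    have h1 : V ≤ frobPow p X e ⁻¹ᵁ U := by rw [frobPow_preimage]; exact h'
    have h2 : U ≤ frob X p ⁻¹ᵁ U := le_rfl
    have h3 : (frobPow p X (e + 1)).appLE U V h = (frob X p).appLE U U h2 ≫ (frobPow p X e).appLE U V h1 :=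
      (Scheme.Hom.appLE_comp_appLE (frobPow p X e) (frob X p) U U V h2 h1).symm
    have h4 : (frob X p).appLE U U h2 s = s ^ p := by
      rw [show (frob X p).appLE U U h2 = (frob X p).app U from Scheme.Hom.appLE_eq_app _]
      exact frob_app X p U s
    rw [h3, CommRingCat.comp_apply, h4, ih U V h1 h', map_pow, pow_succ', ← pow_mul]

theorem frobPow_comp [IsCharP X p] [IsCharP Y p] (f : X ⟶ Y) (e : ℕ) :
    frobPow p X e ≫ f = f ≫ frobPow p Y e := by
  induction e with
  | zero => simp [frobPow]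
  | succ e ih =>
    rw [frobPow, frobPow, Category.assoc, frob_comp p f, reassoc_of% ih]

/-- A morphism that is the identity on points and `q`-th powers on sections is a Frobenius iterate. -/
theorem eq_frobPow [IsCharP X p] (e : ℕ) (F : X ⟶ X) (hb : F.base = 𝟙 _)
    (hle : ∀ U : X.Opens, U ≤ F ⁻¹ᵁ U)
    (happ : ∀ (U : X.Opens) (s : Γ(X, U)), (F.appLE U U (hle U)).hom s = s ^ (p ^ e)) :
    F = frobPow p X e := by
  have hb' : ∀ x, F x = x := fun x ↦ by
    show F.base x = x
    rw [hb]; rfl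
  refine Scheme.Hom.ext (TopCat.ext fun x ↦ (hb' x).trans (frobPow_apply p e x).symm) fun U ↦ ?_
  have hF : F ⁻¹ᵁ U ≤ U := fun x hx ↦ by rw [← hb' x]; exact hx
  ext s
  have key : F.app U s = (X.presheaf.map (homOfLE hF).op s) ^ (p ^ e) := by
    have h1 := congrArg (X.presheaf.map (homOfLE hF).op) (happ U s)
    rw [map_pow] at h1
    rw [← h1]
    show F.app U s = (F.appLE U U (hle U) ≫ X.presheaf.map (homOfLE hF).op) s
    rw [Scheme.Hom.appLE_map]
    rw [show F.appLE U (F ⁻¹ᵁ U) _ = F.app U from Scheme.Hom.appLE_eq_app _]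
  have hP : frobPow p X e ⁻¹ᵁ U ≤ U := (frobPow_preimage p e U).le
  have key' : (frobPow p X e).app U s = (X.presheaf.map (homOfLE hP).op s) ^ (p ^ e) := by
    rw [← Scheme.Hom.appLE_eq_app]
    exact frobPow_app p e U _ le_rfl hP s
  refine Eq.trans ?_ key'.symm
  refine (congrArg (X.presheaf.map _) key).trans ((map_pow _ _ _).trans ?_)
  rw [← CommRingCat.comp_apply, ← Functor.map_comp]
  rfl

theorem frobPow_Spec (R : Type u) [CommRing R] [ExpChar R p] [IsCharP (Spec (CommRingCat.of R)) p]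
    (e : ℕ) :
    frobPow p (Spec (CommRingCat.of R)) e = Spec.map (CommRingCat.ofHom (iterateFrobenius R p e)) := by
  refine ext_of_isAffine ?_
  ext s
  obtain ⟨r, rfl⟩ := (Scheme.ΓSpecIso (CommRingCat.of R)).commRingCatIsoToRingEquiv.symm.surjective s
  show (frobPow p (Spec (CommRingCat.of R)) e).appTop ((Scheme.ΓSpecIso (CommRingCat.of R)).inv r) =
    ((Scheme.ΓSpecIso (CommRingCat.of R)).inv ≫
      (Spec.map (CommRingCat.ofHom (iterateFrobenius R p e))).appTop) r
  rw [← Scheme.ΓSpecIso_inv_naturality, CommRingCat.comp_apply]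
  show _ = (Scheme.ΓSpecIso (CommRingCat.of R)).inv (iterateFrobenius R p e r)
  rw [iterateFrobenius_def, map_pow]
  rw [Scheme.Hom.appTop, ← Scheme.Hom.appLE_eq_app]
  refine (frobPow_app p e ⊤ _ le_rfl le_top _).trans ?_
  congr 1

section BaseChange

variable {k₀ k : Type u} [Field k₀] [Finite k₀] [Field k] [PerfectField k] [Algebra k₀ k]
  {X Xb : Scheme.{u}} {f : X ⟶ Spec (CommRingCat.of k₀)} {π : Xb ⟶ X}
  {g : Xb ⟶ Spec (CommRingCat.of k)}

/-- The base change of the `q`-Frobenius is, up to an automorphism, the `q`-Frobenius. -/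
theorem exists_iso_frob (hπ : IsPullback π g f (Spec.map (CommRingCat.ofHom (algebraMap k₀ k))))
    (FX : X ⟶ X) (hFb : FX.base = 𝟙 _) (hle : ∀ U : X.Opens, U ≤ FX ⁻¹ᵁ U)
    (hFapp : ∀ (U : X.Opens) (s : Γ(X, U)), (FX.appLE U U (hle U)).hom s = s ^ Nat.card k₀)
    (F : Xb ⟶ Xb) (hFπ : F ≫ π = π ≫ FX) (hFg : F ≫ g = g) :
    ∃ (p e : ℕ) (_ : Fact p.Prime) (_ : CharP k p) (_ : IsCharP Xb p) (G : Xb ≅ Xb),
      0 < e ∧ Nat.card k₀ = p ^ e ∧ F = G.inv ≫ frobPow p Xb e ∧ F = frobPow p Xb e ≫ G.inv := by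
  haveI := Fintype.ofFinite k₀
  obtain ⟨p, hp⟩ := CharP.exists k₀
  obtain ⟨e, hpr, hcard⟩ := FiniteField.card k₀ p
  haveI := Fact.mk hpr
  haveI : CharP k p := charP_of_injective_algebraMap (algebraMap k₀ k).injective p
  haveI : PerfectRing k p := PerfectField.toPerfectRing p
  haveI : IsCharP (Spec (CommRingCat.of k₀)) p := inferInstance
  haveI : IsCharP X p := IsCharP.of_hom f p
  haveI : IsCharP Xb p := IsCharP.of_hom π p
  have hq : Nat.card k₀ = p ^ (e : ℕ) := by rw [Nat.card_eq_fintype_card, hcard]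
  have hFX : FX = frobPow p X e := eq_frobPow p e FX hFb hle fun U s ↦ by rw [hFapp, hq]
  let a := Spec.map (CommRingCat.ofHom (algebraMap k₀ k))
  let S := frobPow p (Spec (CommRingCat.of k)) e
  have h0 : frobPow p (Spec (CommRingCat.of k₀)) e = 𝟙 _ := by
    rw [frobPow_Spec, show CommRingCat.ofHom (iterateFrobenius k₀ p e) = 𝟙 _ from ?_, Spec.map_id]
    ext r
    show iterateFrobenius k₀ p e r = r
    rw [iterateFrobenius_def, ← hcard, FiniteField.pow_card]
  have hSa : S ≫ a = a := by rw [frobPow_comp, h0, Category.comp_id]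
  haveI : IsIso S := by
    show IsIso (frobPow p (Spec (CommRingCat.of k)) e)
    rw [frobPow_Spec]
    haveI : IsIso (CommRingCat.ofHom (iterateFrobenius k p e)) :=
      (ConcreteCategory.isIso_iff_bijective _).mpr (bijective_iterateFrobenius k p e)
    infer_instance
  have hS' : inv S ≫ a = a := by rw [IsIso.inv_comp_eq, hSa]
  let G : Xb ≅ Xb :=
    { hom := hπ.lift π (g ≫ S) (by rw [Category.assoc, hSa]; exact hπ.w)
      inv := hπ.lift π (g ≫ inv S) (by rw [Category.assoc, hS']; exact hπ.w)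
      hom_inv_id := hπ.hom_ext (by simp) (by simp)
      inv_hom_id := hπ.hom_ext (by simp) (by simp) }
  have hGF : G.hom ≫ F = frobPow p Xb e := by
    refine hπ.hom_ext ?_ ?_
    · rw [Category.assoc, hFπ, hπ.lift_fst_assoc, hFX, frobPow_comp p π]
    · rw [Category.assoc, hFg, hπ.lift_snd, frobPow_comp p g]
  refine ⟨p, e, inferInstance, inferInstance, inferInstance, G, e.pos, hq, ?_, ?_⟩
  · rw [← hGF, G.inv_hom_id_assoc]
  · rw [frobPow_comp p G.inv, ← hGF, G.inv_hom_id_assoc]

end BaseChange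

end Groth.Agent.WeilLib
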