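import Groth.Agent.WeilLib.Count
import Groth.Agent.LangMap.Torsor
import Groth.Agent.AlgStLib.FinitePoints
import Groth.Prelude.Def_SgaExt

/-!
# Points over finite extensions as Frobenius-fixed geometric points
-/

universe u

set_option backward.isDefEq.respectTransparency false
set_option linter.style.haveILetI false
set_option linter.unusedSectionVars false

open CategoryTheory CategoryTheory.Limits AlgebraicGeometry FrobSch WeilCoh

namespace Groth.Agent.WeilLib

variable {k₀ : Type u} [Field k₀] (k : Type u) [Field k] [Algebra k₀ k] {X : Scheme.{u}}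
  (f : X ⟶ Spec (CommRingCat.of k₀)) (pc : ℕ) [Fact pc.Prime] [IsCharP (Spec (CommRingCat.of k)) pc]

/-- The geometric points fixed by the `pc^E`-th power Frobenius. -/
abbrev FixedPts (E : ℕ) : Type u :=
  {a : Spec (CommRingCat.of k) ⟶ X //
    a ≫ f = Spec.map (CommRingCat.ofHom (algebraMap k₀ k)) ∧ frobPow pc (Spec (CommRingCat.of k)) E ≫ a = a}

variable [Finite k₀] [IsAlgClosed k] [ExpChar k pc]

/-- Fixed geometric points counted by closed points. -/
theorem card_fixedPts_eq_nPts [LocallyOfFiniteType f] (e : ℕ) (hq : Nat.card k₀ = pc ^ e) (m : ℕ) (hm : 0 < m)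
    [Finite (FixedPts k f pc (e * m))] : Nat.card (FixedPts k f pc (e * m)) = Zeta.nPts f m := by
  classical
  let E := e * m
  let alg := Spec.map (CommRingCat.ofHom (algebraMap k₀ k))
  let A := FixedPts k f pc E
  show Nat.card A = _
  let B := {x : X // ∀ z : X.residueField x, z ^ (Nat.card k₀ ^ m) = z}
  letI alg' : ∀ x : X, Algebra k₀ (X.residueField x) := fun x ↦ (kStr f x).toAlgebra
  have hE : Nat.card k₀ ^ m = pc ^ E := by rw [hq, ← pow_mul]
  have hfrob : ∀ (x : X) (φ : X.residueField x ⟶ CommRingCat.of k),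
      (frobPow pc (Spec (CommRingCat.of k)) E ≫ (Spec.map φ ≫ X.fromSpecResidueField x) =
        Spec.map φ ≫ X.fromSpecResidueField x) ↔ ∀ z : X.residueField x, z ^ (Nat.card k₀ ^ m) = z := by
    intro x φ
    rw [frobPow_Spec pc k E, ← Category.assoc, ← Spec.map_comp, cancel_mono, Spec.map_inj]
    constructor
    · intro h z
      apply φ.hom.injective
      rw [map_pow, hE, ← iterateFrobenius_def]
      exact congr($h z)
    · intro h
      ext z
      show iterateFrobenius k pc E (φ z) = φ z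
      rw [iterateFrobenius_def, ← hE, ← map_pow, h]
  have hover : ∀ (x : X) (φ : X.residueField x ⟶ CommRingCat.of k),
      ((Spec.map φ ≫ X.fromSpecResidueField x) ≫ f = alg) ↔
        φ.hom.comp (kStr f x) = algebraMap k₀ k := by
    intro x φ
    rw [Category.assoc, fromSpecResidueField_comp, ← Spec.map_comp, Spec.map_inj]
    exact ⟨fun h ↦ congrArg CommRingCat.Hom.hom h, fun h ↦ CommRingCat.hom_ext h⟩
  let Ψ : (Σ b : B, (X.residueField b.1 →ₐ[k₀] k)) → A := fun y ↦
    ⟨(Scheme.SpecToEquivOfField k X).symm ⟨y.1.1, CommRingCat.ofHom y.2.toRingHom⟩,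
      (hover y.1.1 _).mpr (RingHom.ext fun c ↦ y.2.commutes c), (hfrob y.1.1 _).mpr y.1.2⟩
  have hΨ : Function.Bijective Ψ := by
    constructor
    · rintro ⟨⟨x, hx⟩, φ⟩ ⟨⟨x', hx'⟩, φ'⟩ h
      have h1 := (Scheme.SpecToEquivOfField k X).symm.injective (congrArg Subtype.val h)
      obtain ⟨h2, h3⟩ := Sigma.mk.inj h1
      dsimp only at h2
      subst h2
      obtain rfl : φ = φ' := AlgHom.coe_ringHom_injective
        (congrArg CommRingCat.Hom.hom (eq_of_heq h3))
      rfl
    · rintro ⟨a, ha, hfix⟩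
      obtain ⟨⟨x, φ⟩, rfl⟩ := (Scheme.SpecToEquivOfField k X).symm.surjective a
      exact ⟨⟨⟨x, (hfrob x φ).mp hfix⟩,
        { φ.hom with commutes' := RingHom.congr_fun ((hover x φ).mp ha) }⟩, rfl⟩
  rw [← Nat.card_congr (Equiv.ofBijective Ψ hΨ)]
  haveI : Finite (Σ b : B, (X.residueField b.1 →ₐ[k₀] k)) := Finite.of_injective Ψ hΨ.1
  have hdeg : ∀ b : B, Module.Finite k₀ (X.residueField b.1) := fun b ↦
    (finite_residueField_iff f b.1).mpr ((forall_pow_eq_iff f hm).mp b.2).1
  have hcard : ∀ b : B, Nat.card (X.residueField b.1 →ₐ[k₀] k) = EGA4loc.residueDegree f b.1 := by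
    intro b
    haveI := hdeg b
    rw [Nat.card_eq_fintype_card, AlgHom.card, residueDegree_eq_finrank]
  have hpos : ∀ b : B, 0 < EGA4loc.residueDegree f b.1 := fun b ↦ by
    haveI := hdeg b
    rw [residueDegree_eq_finrank]
    exact Module.finrank_pos
  haveI : Finite B := Finite.of_surjective (fun y : Σ b : B, (X.residueField b.1 →ₐ[k₀] k) ↦ y.1)
    fun b ↦ by
      have := hpos b
      rw [← hcard b] at this
      exact ⟨⟨b, (Nat.card_pos_iff.mp this).1.some⟩, rfl⟩
  haveI := Fintype.ofFinite B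
  rw [Nat.card_sigma, Finset.sum_congr rfl fun b _ ↦ hcard b,
    ← Finset.sum_fiberwise_of_maps_to (g := fun b : B ↦ EGA4loc.residueDegree f b.1) (t := m.divisors)
      (fun b _ ↦ Nat.mem_divisors.mpr ⟨((forall_pow_eq_iff f hm).mp b.2).2, hm.ne'⟩)]
  refine Finset.sum_congr rfl fun d hd ↦ ?_
  rw [Finset.sum_congr rfl (g := fun _ ↦ d) fun b hb ↦ (Finset.mem_filter.mp hb).2,
    Finset.sum_const, smul_eq_mul, mul_comm]
  congr 1
  rw [← Fintype.card_subtype, ← Nat.card_eq_fintype_card]
  exact Nat.card_congr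
    { toFun := fun b ↦ ⟨b.1.1, ((forall_pow_eq_iff f hm).mp b.1.2).1, b.2⟩
      invFun := fun x ↦ ⟨⟨x.1, (forall_pow_eq_iff f hm).mpr
        ⟨x.2.1, x.2.2.symm ▸ (Nat.mem_divisors.mp hd).1⟩⟩, x.2.2⟩
      left_inv := fun _ ↦ rfl
      right_inv := fun _ ↦ rfl }

/-- Points with values in the degree-`m` extension are the fixed geometric points. -/
theorem nonempty_points_equiv_fixedPts (e : ℕ) (hq : Nat.card k₀ = pc ^ e)
    (k' : Type u) [Field k'] [Algebra k₀ k'] [Finite k'] :
    Nonempty ({g : Spec (CommRingCat.of k') ⟶ X // g ≫ f = Spec.map (CommRingCat.ofHom (algebraMap k₀ k'))} ≃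
      FixedPts k f pc (e * Module.finrank k₀ k')) := by
  haveI : Module.Finite k₀ k' := Module.Finite.of_finite
  let σ : k' →ₐ[k₀] k := IsAlgClosed.lift
  letI := σ.toRingHom.toAlgebra
  have hQ : Nat.card k' = pc ^ (e * Module.finrank k₀ k') := by
    rw [Module.natCard_eq_pow_finrank (K := k₀), hq, ← pow_mul]
  let s : Spec (CommRingCat.of k) ⟶ Spec (CommRingCat.of k') := Spec.map (CommRingCat.ofHom σ.toRingHom)
  have hs : s ≫ Spec.map (CommRingCat.ofHom (algebraMap k₀ k')) = Spec.map (CommRingCat.ofHom (algebraMap k₀ k)) := by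
    rw [← Spec.map_comp]
    exact congrArg Spec.map (CommRingCat.hom_ext σ.comp_algebraMap)
  haveI : Epi s := by
    haveI : Flat s := Flat.SpecMap_iff.2 (RingHom.flat_algebraMap_iff.2 (inferInstance : Module.Flat k' k))
    haveI : AlgebraicGeometry.Surjective s :=
      ⟨fun z => ⟨IsLocalRing.closedPoint k, Subsingleton.elim (α := PrimeSpectrum k') _ _⟩⟩
    exact Flat.epi_of_flat_of_surjective s
  have hsfix : frobPow pc (Spec (CommRingCat.of k)) (e * Module.finrank k₀ k') ≫ s = s := by
    rw [frobPow_Spec pc k, ← Spec.map_comp]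
    refine congrArg Spec.map (CommRingCat.hom_ext (RingHom.ext fun c => ?_))
    show iterateFrobenius k pc _ (σ c) = σ c
    rw [iterateFrobenius_def, ← map_pow, ← hQ]
    haveI := Fintype.ofFinite k'
    rw [Nat.card_eq_fintype_card, FiniteField.pow_card]
  refine ⟨Equiv.ofBijective
    (fun g => (⟨s ≫ g.1, by rw [Category.assoc, g.2, hs], by rw [← Category.assoc, hsfix]⟩ :
      FixedPts k f pc (e * Module.finrank k₀ k'))) ⟨fun g g' h => ?_, ?_⟩⟩
  · exact Subtype.ext ((cancel_epi s).1 (congrArg Subtype.val h))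
  · rintro ⟨a, ha, hfix⟩
    obtain ⟨⟨x, φ⟩, hφ⟩ := (Scheme.SpecToEquivOfField k X).symm.surjective a
    change Spec.map φ ≫ X.fromSpecResidueField x = a at hφ
    have hfix' : φ ≫ CommRingCat.ofHom (iterateFrobenius k pc (e * Module.finrank k₀ k')) = φ := by
      refine Spec.map_injective ((cancel_mono (X.fromSpecResidueField x)).1 ?_)
      rw [Spec.map_comp, Category.assoc, hφ, ← frobPow_Spec]
      exact hfix
    have hrange : ∀ z, φ.hom z ∈ (algebraMap k' k).fieldRange := fun z =>
      LangMap.mem_range_of_pow_eq (k := k') (K := k) (by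
        rw [hQ, ← iterateFrobenius_def]
        exact congr($hfix' z))
    let e' := RingEquiv.ofBijective _ (RingHom.rangeRestrictField_bijective (algebraMap k' k))
    let φ' : X.residueField x ⟶ CommRingCat.of k' :=
      CommRingCat.ofHom (e'.symm.toRingHom.comp (φ.hom.codRestrict _ hrange))
    have hφ' : φ' ≫ CommRingCat.ofHom σ.toRingHom = φ := by
      ext z
      exact congrArg Subtype.val (e'.apply_symm_apply ((φ.hom.codRestrict _ hrange) z))
    have hg : s ≫ (Spec.map φ' ≫ X.fromSpecResidueField x) = a := by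
      rw [← Spec.map_comp_assoc, hφ', hφ]
    refine ⟨⟨Spec.map φ' ≫ X.fromSpecResidueField x, (cancel_epi s).1 ?_⟩, Subtype.ext hg⟩
    rw [← Category.assoc, hg, ha, hs]

theorem card_points_eq_fixedPts (e : ℕ) (hq : Nat.card k₀ = pc ^ e)
    (k' : Type u) [Field k'] [Algebra k₀ k'] [Finite k'] :
    SgaExt.pointCount f k' = Nat.card (FixedPts k f pc (e * Module.finrank k₀ k')) :=
  Nat.card_congr (nonempty_points_equiv_fixedPts k f pc e hq k').some

omit [Finite k₀] [IsAlgClosed k] in
theorem finite_points_ext [LocallyOfFiniteType f] [QuasiCompact f] (k' : Type u) [Field k'] [Algebra k₀ k'] [Finite k'] :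
    Finite {g : Spec (CommRingCat.of k') ⟶ X // g ≫ f = Spec.map (CommRingCat.ofHom (algebraMap k₀ k'))} := by
  let a := Spec.map (CommRingCat.ofHom (algebraMap k₀ k'))
  let Y : Over (Spec (CommRingCat.of k')) := Over.mk (pullback.snd f a)
  haveI : LocallyOfFiniteType Y.hom := inferInstanceAs (LocallyOfFiniteType (pullback.snd f a))
  haveI : QuasiCompact Y.hom := inferInstanceAs (QuasiCompact (pullback.snd f a))
  haveI := AlgStLib.FinitePoints.finite_points Y
  refine Finite.of_injective (fun g => (Over.homMk (pullback.lift g.1 (𝟙 _) (g.2.trans (Category.id_comp a).symm))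
    (pullback.lift_snd _ _ _) : Over.mk (𝟙 (Spec (CommRingCat.of k'))) ⟶ Y)) fun g g' h => Subtype.ext ?_
  have := congrArg (fun t => t.left ≫ pullback.fst f a) h
  simpa [Y] using this

end Groth.Agent.WeilLib
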