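import Mathlib

/-!
# Logarithmic derivatives of `det (1 - t M)` and of exponentials
-/

universe u v

open PowerSeries Finset

namespace Groth.Agent.WeilLib

variable {R : Type*} [CommRing R]

theorem derivation_prod {ι : Type*} [DecidableEq ι] (s : Finset ι) (f : ι → R⟦X⟧) :
    d⁄dX R (∏ i ∈ s, f i) = ∑ i ∈ s, d⁄dX R (f i) * ∏ j ∈ s.erase i, f j := by
  induction s using Finset.induction with
  | empty => simp
  | insert a s ha ih =>
    rw [Finset.prod_insert ha, Derivation.leibniz, ih, Finset.sum_insert ha,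
      Finset.erase_insert ha, smul_eq_mul, smul_eq_mul, Finset.mul_sum, add_comm]
    congr 1
    · ring
    · refine Finset.sum_congr rfl fun i hi ↦ ?_
      have hne : a ≠ i := fun h ↦ ha (h ▸ hi)
      rw [Finset.erase_insert_of_ne hne, Finset.prod_insert (fun h ↦ ha (Finset.mem_of_mem_erase h))]
      ring

/-- The derivative of a determinant. -/
theorem derivative_det {n : Type*} [Fintype n] [DecidableEq n] (A : Matrix n n R⟦X⟧) :
    d⁄dX R A.det = (A.adjugate * A.map (d⁄dX R)).trace := by
  have h1 : ∀ i, (A.adjugate * A.map (d⁄dX R)) i i =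
      (A.updateCol i fun r ↦ d⁄dX R (A r i)).det := by
    intro i
    rw [← Matrix.cramer_apply, Matrix.cramer_eq_adjugate_mulVec]
    rfl
  simp only [Matrix.trace, Matrix.diag_apply, h1, Matrix.det_apply']
  rw [map_sum, Finset.sum_comm]
  refine Finset.sum_congr rfl fun σ _ ↦ ?_
  rw [Derivation.leibniz, Derivation.map_intCast, smul_zero, add_zero, smul_eq_mul, derivation_prod,
    Finset.mul_sum]
  refine Finset.sum_congr rfl fun i _ ↦ ?_
  congr 1
  rw [← Finset.mul_prod_erase Finset.univ _ (Finset.mem_univ i), Matrix.updateCol_self]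
  congr 1
  refine Finset.prod_congr rfl fun j hj ↦ ?_
  rw [Matrix.updateCol_ne (Finset.ne_of_mem_erase hj)]

/-- The logarithmic derivative of `det (1 - t M)`. -/
theorem derivative_charpolyRev {n : Type*} [Fintype n] [DecidableEq n] (M : Matrix n n R) :
    d⁄dX R (M.charpolyRev : R⟦X⟧) =
      (M.charpolyRev : R⟦X⟧) * -PowerSeries.mk (fun m ↦ (M ^ (m + 1)).trace) := by
  let A : Matrix n n R⟦X⟧ := 1 - (PowerSeries.X : R⟦X⟧) • M.map PowerSeries.C
  let G : Matrix n n R⟦X⟧ := Matrix.of fun i j ↦ PowerSeries.mk fun m ↦ (M ^ m) i j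
  have hdet : (M.charpolyRev : R⟦X⟧) = A.det := by
    rw [Matrix.charpolyRev, ← Polynomial.coeToPowerSeries.ringHom_apply, RingHom.map_det]
    congr 1
    ext1 i j
    rcases eq_or_ne i j with rfl | hne
    · simp [A]
      ring
    · simp [A, hne]
      ring
  have hAG : A * G = 1 := by
    have hGi : ∀ i j, (M.map PowerSeries.C * G) i j =
        PowerSeries.mk fun m ↦ (M ^ (m + 1)) i j := by
      intro i j
      ext m
      simp [Matrix.mul_apply, G, pow_succ', map_sum, PowerSeries.coeff_C_mul]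
    rw [sub_mul, one_mul, Matrix.smul_mul]
    refine Matrix.ext fun i j ↦ ?_
    rw [Matrix.sub_apply, Matrix.smul_apply, hGi, smul_eq_mul]
    ext m
    cases m with
    | zero => rcases eq_or_ne i j with rfl | hne <;> simp [G, *]
    | succ m => rcases eq_or_ne i j with rfl | hne <;> simp [G, *, PowerSeries.coeff_succ_X_mul]
  have hadj : A.adjugate = A.det • G := by
    rw [← mul_one A.adjugate, ← hAG, ← mul_assoc, Matrix.adjugate_mul, Matrix.smul_mul, one_mul]
  have hD : A.map (d⁄dX R) = -M.map PowerSeries.C := by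
    refine Matrix.ext fun i j ↦ ?_
    rcases eq_or_ne i j with rfl | hne <;>
      simp [A, *, Derivation.leibniz]
  rw [hdet, derivative_det, hadj, hD, Matrix.mul_neg, Matrix.trace_neg, Matrix.smul_mul,
    Matrix.trace_smul, smul_eq_mul, mul_neg]
  congr 2
  ext m
  simp [Matrix.trace, Matrix.mul_apply, G, pow_succ, map_sum, PowerSeries.coeff_mul_C]

/-- `G` has logarithmic derivative `a`. -/
def LogD (G a : R⟦X⟧) : Prop := d⁄dX R G = G * a

theorem LogD.mul {G H a b : R⟦X⟧} (hG : LogD G a) (hH : LogD H b) : LogD (G * H) (a + b) := by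
  unfold LogD at *
  rw [Derivation.leibniz, hG, hH, smul_eq_mul, smul_eq_mul]
  ring

theorem LogD.prod {ι : Type*} (s : Finset ι) {G a : ι → R⟦X⟧} (h : ∀ i ∈ s, LogD (G i) (a i)) :
    LogD (∏ i ∈ s, G i) (∑ i ∈ s, a i) := by
  classical
  induction s using Finset.induction with
  | empty => simp [LogD]
  | insert x s hx ih =>
    rw [Finset.prod_insert hx, Finset.sum_insert hx]
    exact (h x (Finset.mem_insert_self _ _)).mul (ih fun i hi ↦ h i (Finset.mem_insert_of_mem hi))

theorem LogD.unique {K : Type*} [Field K] [CharZero K] {G H a : K⟦X⟧} (hG : LogD G a)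
    (hH : LogD H a) (hc : PowerSeries.constantCoeff G = PowerSeries.constantCoeff H) : G = H := by
  ext m
  induction m using Nat.strong_induction_on with
  | _ m ih =>
    rcases m with - | m
    · rw [PowerSeries.coeff_zero_eq_constantCoeff_apply, PowerSeries.coeff_zero_eq_constantCoeff_apply,
        hc]
    · have h1 := congrArg (PowerSeries.coeff m) hG
      have h2 := congrArg (PowerSeries.coeff m) hH
      rw [PowerSeries.coeff_derivative, PowerSeries.coeff_mul] at h1 h2
      have h3 : ∑ x ∈ Finset.HasAntidiagonal.antidiagonal m, PowerSeries.coeff x.1 G * PowerSeries.coeff x.2 a =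
          ∑ x ∈ Finset.HasAntidiagonal.antidiagonal m, PowerSeries.coeff x.1 H * PowerSeries.coeff x.2 a :=
        Finset.sum_congr rfl fun x hx ↦ by
          rw [ih x.1 (by have := Finset.HasAntidiagonal.mem_antidiagonal.mp hx; omega)]
      exact mul_right_cancel₀ (Nat.cast_add_one_ne_zero (R := K) m) (h1.trans (h3.trans h2.symm))

/-- The exponential of `Σ N_m t^m / m`. -/
theorem logD_exp_subst {K : Type*} [Field K] [CharZero K] (N : ℕ → ℚ) (hN : N 0 = 0) :
    LogD (PowerSeries.map (algebraMap ℚ K)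
        (PowerSeries.subst (PowerSeries.mk fun m ↦ N m / m) (PowerSeries.exp ℚ)))
      (PowerSeries.mk fun m ↦ (N (m + 1) : K)) ∧
    PowerSeries.constantCoeff (PowerSeries.map (algebraMap ℚ K)
        (PowerSeries.subst (PowerSeries.mk fun m ↦ N m / m) (PowerSeries.exp ℚ))) = 1 := by
  set L : ℚ⟦X⟧ := PowerSeries.mk fun m ↦ N m / m
  have hL0 : PowerSeries.constantCoeff L = 0 := by simp [L, hN]
  have hs : PowerSeries.HasSubst L := PowerSeries.HasSubst.of_constantCoeff_zero' hL0
  have hD : d⁄dX ℚ L = PowerSeries.mk fun m ↦ N (m + 1) := by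
    ext m
    rw [PowerSeries.coeff_derivative, PowerSeries.coeff_mk, PowerSeries.coeff_mk]
    push_cast
    field_simp

  refine ⟨?_, ?_⟩
  · have hmap : ∀ f : ℚ⟦X⟧, d⁄dX K (PowerSeries.map (algebraMap ℚ K) f) =
        PowerSeries.map (algebraMap ℚ K) (d⁄dX ℚ f) := fun f ↦ by
      ext m
      simp [PowerSeries.coeff_derivative]
    unfold LogD
    rw [hmap, PowerSeries.derivative_subst hs, PowerSeries.derivative_exp, hD, map_mul]
    congr 1
  · have h0 : PowerSeries.constantCoeff (PowerSeries.subst L (PowerSeries.exp ℚ)) = 1 := by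
      have h : PowerSeries.coeff 0 (PowerSeries.subst L (PowerSeries.exp ℚ)) = 1 := by
        rw [PowerSeries.coeff_subst' hs, finsum_eq_single _ 0]
        · simp
        · intro d hd
          rw [PowerSeries.coeff_zero_eq_constantCoeff_apply (φ := L ^ d), map_pow, hL0, zero_pow hd,
            smul_zero]
      rwa [PowerSeries.coeff_zero_eq_constantCoeff_apply] at h
    rw [← PowerSeries.coeff_zero_eq_constantCoeff_apply, PowerSeries.coeff_map,
      PowerSeries.coeff_zero_eq_constantCoeff_apply, h0, map_one]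

/-- Descent of rationality. -/
theorem exists_rat_of_map {K : Type*} [Field K] [CharZero K] (Z : ℚ⟦X⟧) (Q P : Polynomial K)
    (hQ : Q ≠ 0) (h : PowerSeries.map (algebraMap ℚ K) Z * (Q : K⟦X⟧) = (P : K⟦X⟧)) :
    ∃ P' Q' : Polynomial ℚ, Q' ≠ 0 ∧ Z * (Q' : ℚ⟦X⟧) = (P' : ℚ⟦X⟧) := by
  classical
  obtain ⟨i₀, hi₀⟩ : ∃ i, Q.coeff i ≠ 0 := by
    by_contra! hh
    exact hQ (Polynomial.ext fun i ↦ by simpa using hh i)
  obtain ⟨φ, hφ⟩ := Module.Projective.exists_dual_ne_zero ℚ hi₀
  let red : Polynomial K → Polynomial ℚ := fun A ↦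
    ∑ i ∈ A.support, Polynomial.monomial i (φ (A.coeff i))
  have hred : ∀ A i, (red A).coeff i = φ (A.coeff i) := by
    intro A i
    simp only [red, Polynomial.finsetSum_coeff, Polynomial.coeff_monomial, Finset.sum_ite_eq']
    split_ifs with hi
    · rfl
    · rw [Polynomial.notMem_support_iff.mp hi, map_zero]
  refine ⟨red P, red Q, fun h0 ↦ hφ ?_, ?_⟩
  · have := congrArg (Polynomial.coeff · i₀) h0
    simpa [hred] using this
  · ext m
    have hm := congrArg (fun f ↦ φ (PowerSeries.coeff m f)) h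
    simp only [PowerSeries.coeff_mul, map_sum, PowerSeries.coeff_map, Polynomial.coeff_coe] at hm
    rw [PowerSeries.coeff_mul, Polynomial.coeff_coe, hred, ← hm]
    refine Finset.sum_congr rfl fun x _ ↦ ?_
    rw [Polynomial.coeff_coe, hred, ← Algebra.smul_def, map_smul, smul_eq_mul]

end Groth.Agent.WeilLib
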