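import Mathlib

/-!
# The degree of a finitely generated field over its subfield of `p^e`-th powers
-/

universe u

set_option linter.style.haveILetI false

namespace Groth.Agent.WeilLib

open Subfield

/-- In a purely transcendental extension of a perfect field the `q`-th powers have index `q^n`. -/
theorem finrank_powers_of_adjoin_eq_top (p : ℕ) [Fact p.Prime] (e : ℕ) (k K : Type u) [Field k]
    [Field K] [Algebra k K] [CharP K p] [PerfectField k] {n : ℕ} (x : Fin n → K)
    (hx : AlgebraicIndependent k x) (htop : IntermediateField.adjoin k (Set.range x) = ⊤) :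
    Module.finrank (iterateFrobenius K p e).fieldRange K = (p ^ e) ^ n := by
  classical
  haveI : CharP k p := (algebraMap k K).charP (algebraMap k K).injective p
  haveI : PerfectRing k p := PerfectField.toPerfectRing p
  set q := p ^ e with hq
  have hqpos : 0 < q := pow_pos (Fact.out : p.Prime).pos e
  let φ := iterateFrobenius K p e
  let F := φ.fieldRange
  have hφ : ∀ a, φ a = a ^ q := fun a ↦ iterateFrobenius_def p e a
  have hmem : ∀ a : K, a ^ q ∈ F := fun a ↦ ⟨a, hφ a⟩
  have hk : ∀ c : k, algebraMap k K c ∈ F := fun c ↦ by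
    obtain ⟨d, rfl⟩ := (bijective_iterateFrobenius k p e).2 c
    rw [iterateFrobenius_def, map_pow]
    exact hmem _
  let mon : (Fin n → Fin q) → K := fun a ↦ ∏ i, x i ^ (a i : ℕ)
  -- independence
  have hli : LinearIndependent F mon := by
    rw [Fintype.linearIndependent_iff]
    intro c hc
    have hd : ∀ a, ∃ r s : MvPolynomial (Fin n) k, s ≠ 0 ∧
        ((c a : K)) = (MvPolynomial.aeval x r / MvPolynomial.aeval x s) ^ q := by
      intro a
      obtain ⟨d, hd⟩ := (c a).2
      obtain ⟨r, s, hrs⟩ := (IntermediateField.mem_adjoin_range_iff (F := k) x d).mp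
        (htop ▸ IntermediateField.mem_top)
      by_cases hs : s = 0
      · refine ⟨0, 1, one_ne_zero, ?_⟩
        rw [← hd, hφ, hrs, hs, map_zero, div_zero, zero_div]
      · exact ⟨r, s, hs, by rw [← hd, hφ, hrs]⟩
    choose r s hs hrs using hd
    let P : (Fin n → Fin q) → MvPolynomial (Fin n) k := fun a ↦ r a * ∏ b ∈ Finset.univ.erase a, s b
    have hD : MvPolynomial.aeval x (∏ b, s b) ≠ 0 := fun h ↦
      Finset.prod_ne_zero_iff.mpr (fun b _ ↦ hs b)
        ((injective_iff_map_eq_zero _).mp (algebraicIndependent_iff_injective_aeval.mp hx) _ h)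
    have hP : ∀ a, MvPolynomial.aeval x (P a) ^ q =
        (c a : K) * MvPolynomial.aeval x (∏ b, s b) ^ q := by
      intro a
      have hsa : MvPolynomial.aeval x (s a) ≠ 0 := fun h ↦
        hs a ((injective_iff_map_eq_zero _).mp (algebraicIndependent_iff_injective_aeval.mp hx) _ h)
      rw [hrs, ← mul_pow, ← Finset.mul_prod_erase Finset.univ s (Finset.mem_univ a), map_mul,
        map_mul, ← mul_assoc, div_mul_cancel₀ _ hsa]
    let E : (Fin n → Fin q) → (Fin n →₀ ℕ) := fun a ↦ Finsupp.equivFunOnFinite.symm fun i ↦ (a i : ℕ)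
    have hzero : ∑ a, P a ^ q * MvPolynomial.monomial (E a) (1 : k) = 0 := by
      refine algebraicIndependent_iff_injective_aeval.mp hx ?_
      rw [map_sum, map_zero]
      have : ∀ a, MvPolynomial.aeval x (P a ^ q * MvPolynomial.monomial (E a) (1 : k)) =
          MvPolynomial.aeval x (∏ b, s b) ^ q * (c a • mon a) := by
        intro a
        rw [map_mul, map_pow, hP, MvPolynomial.aeval_monomial, map_one, one_mul,
          Finsupp.prod_fintype _ _ (fun i ↦ pow_zero _), Subfield.smul_def, smul_eq_mul]
        simp only [E, Finsupp.coe_equivFunOnFinite_symm, mon]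
        ring
      simp only [this, ← Finset.mul_sum, hc, mul_zero]
    intro a
    have hPa : P a = 0 := by
      ext m
      have h := congrArg (MvPolynomial.coeff (q • m + E a)) hzero
      have hexp : ∀ b, P b ^ q * MvPolynomial.monomial (E b) (1 : k) =
          ∑ m' ∈ (P b).support, MvPolynomial.monomial (q • m' + E b) ((P b).coeff m' ^ q) := by
        intro b
        conv_lhs => rw [(P b).as_sum, hq, sum_pow_char_pow, Finset.sum_mul]
        refine Finset.sum_congr rfl fun m' _ ↦ ?_
        rw [MvPolynomial.monomial_pow, MvPolynomial.monomial_mul, mul_one]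
      simp only [hexp, MvPolynomial.coeff_sum, MvPolynomial.coeff_monomial, MvPolynomial.coeff_zero] at h
      have hinj : ∀ b m', q • m' + E b = q • m + E a → b = a ∧ m' = m := by
        intro b m' hbm
        have h1 : ∀ i, q * m' i + (b i : ℕ) = q * m i + (a i : ℕ) := fun i ↦ by
          simpa [E] using DFunLike.congr_fun hbm i
        refine ⟨funext fun i ↦ Fin.ext ?_, Finsupp.ext fun i ↦ ?_⟩
        · have h2 := congrArg (· % q) (h1 i)
          simpa [Nat.mod_eq_of_lt (b i).2, Nat.mod_eq_of_lt (a i).2] using h2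
        · have h2 := congrArg (· / q) (h1 i)
          simpa [Nat.mul_add_div hqpos, Nat.div_eq_of_lt (b i).2, Nat.div_eq_of_lt (a i).2] using h2
      rw [Finset.sum_eq_single_of_mem a (Finset.mem_univ a) fun b _ hb ↦
        Finset.sum_eq_zero fun m' _ ↦ if_neg fun hbm ↦ hb (hinj b m' hbm).1] at h
      rw [MvPolynomial.coeff_zero]
      by_contra hne
      rw [Finset.sum_eq_single_of_mem m (MvPolynomial.mem_support_iff.mpr hne) fun m' _ hm' ↦
        if_neg fun hbm ↦ hm' (hinj a m' hbm).2, if_pos rfl] at h
      exact hne (pow_eq_zero_iff hqpos.ne'|>.mp h)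
    have := hP a
    rw [hPa, map_zero, zero_pow hqpos.ne'] at this
    exact Subtype.ext ((mul_eq_zero.mp this.symm).resolve_right (pow_ne_zero _ hD))
  -- spanning
  have hspan : ⊤ ≤ Submodule.span F (Set.range mon) := by
    have hint : ∀ y ∈ Set.range x, IsIntegral F y := by
      rintro _ ⟨i, rfl⟩
      refine ⟨Polynomial.X ^ q - Polynomial.C ⟨_, hmem (x i)⟩,
        Polynomial.monic_X_pow_sub_C _ hqpos.ne', ?_⟩
      simp [Polynomial.eval₂_sub]
      exact sub_self _
    let E' := IntermediateField.adjoin F (Set.range x)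
    have hE' : E' = ⊤ := by
      refine eq_top_iff.mpr fun z _ ↦ ?_
      have hz : z ∈ IntermediateField.adjoin k (Set.range x) := htop ▸ IntermediateField.mem_top
      refine IntermediateField.adjoin_induction k (p := fun z _ ↦ z ∈ E') ?_ ?_ ?_ ?_ ?_ hz
      · exact fun y hy ↦ IntermediateField.subset_adjoin _ _ hy
      · exact fun c ↦ E'.algebraMap_mem ⟨_, hk c⟩
      · exact fun _ _ _ _ ↦ add_mem
      · exact fun _ _ ↦ inv_mem
      · exact fun _ _ _ _ ↦ mul_mem
    have h := IntermediateField.adjoin_toSubalgebra_of_isAlgebraic (F := F) (S := Set.range x)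
      fun y hy ↦ (hint y hy).isAlgebraic
    rw [show IntermediateField.adjoin F (Set.range x) = ⊤ from hE',
      IntermediateField.top_toSubalgebra] at h
    intro z _
    have hz : z ∈ Subalgebra.toSubmodule (Algebra.adjoin F (Set.range x)) := by
      rw [Subalgebra.mem_toSubmodule, ← h]
      exact Algebra.mem_top
    rw [Algebra.adjoin_eq_span] at hz
    refine Submodule.span_le.mpr ?_ hz
    intro y hy
    have hy' : ∃ m : Fin n → ℕ, y = ∏ i, x i ^ m i := by
      induction hy using Submonoid.closure_induction with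
      | mem y hy =>
        obtain ⟨i, rfl⟩ := hy
        exact ⟨Pi.single i 1, by simp [Pi.single_apply, Finset.prod_ite_eq', pow_ite]⟩
      | one => exact ⟨0, by simp⟩
      | mul y z _ _ hy hz =>
        obtain ⟨a, rfl⟩ := hy
        obtain ⟨b, rfl⟩ := hz
        exact ⟨a + b, by simp [pow_add, Finset.prod_mul_distrib]⟩
    obtain ⟨m, rfl⟩ := hy'
    have hc : (∏ i, x i ^ (m i / q)) ^ q ∈ F := hmem _
    have : ∏ i, x i ^ m i =
        (⟨_, hc⟩ : F) • mon (fun i ↦ ⟨m i % q, Nat.mod_lt _ hqpos⟩) := by
      rw [Subfield.smul_def, smul_eq_mul]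
      simp only [mon, ← Finset.prod_pow, ← pow_mul, ← Finset.prod_mul_distrib, ← pow_add]
      refine Finset.prod_congr rfl fun i _ ↦ ?_
      rw [Nat.div_add_mod' (m i) q]
    rw [this]
    exact Submodule.smul_mem _ _ (Submodule.subset_span ⟨_, rfl⟩)
  rw [Module.finrank_eq_card_basis (Module.Basis.mk hli hspan)]
  simp

/-- `[L : L^q] = q^trdeg` for a finitely generated extension of a perfect field. -/
theorem finrank_powers (p : ℕ) [Fact p.Prime] (e : ℕ) (k L : Type u) [Field k] [Field L]
    [Algebra k L] [CharP L p] [PerfectField k] [Algebra.EssFiniteType k L] {n : ℕ}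
    (hn : Algebra.trdeg k L = n) :
    Module.finrank (iterateFrobenius L p e).fieldRange L = (p ^ e) ^ n := by
  classical
  obtain ⟨s, hs⟩ := exists_isTranscendenceBasis k L
  have hcard : Cardinal.mk s = n := hs.cardinalMk_eq_trdeg.trans hn
  haveI : Finite s := Cardinal.lt_aleph0_iff_finite.mp (hcard ▸ Cardinal.natCast_lt_aleph0)
  haveI := Fintype.ofFinite s
  have hcard' : Fintype.card s = n := by
    rw [Cardinal.mk_fintype] at hcard
    exact_mod_cast hcard
  let ε := (Fintype.equivFinOfCardEq hcard').symm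
  let x : Fin n → L := fun i ↦ (ε i : L)
  have hxr : Set.range x = s := by
    rw [show x = (Subtype.val : s → L) ∘ ε from rfl, Set.range_comp, ε.range_eq_univ, Set.image_univ,
      Subtype.range_coe]
  let A := IntermediateField.adjoin k (Set.range x)
  haveI : Algebra.IsAlgebraic A L := by
    have := hs.isAlgebraic_field
    rw [Subtype.range_coe] at this
    show Algebra.IsAlgebraic (IntermediateField.adjoin k (Set.range x)) L
    rw [hxr]
    exact this
  haveI : Algebra.EssFiniteType A L := Algebra.EssFiniteType.of_comp k A L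
  haveI : Module.Finite A L := Algebra.finite_of_essFiniteType_of_isAlgebraic
  haveI : CharP A p := (algebraMap A L).charP (algebraMap A L).injective p
  let x' : Fin n → A := fun i ↦ ⟨x i, IntermediateField.subset_adjoin _ _ ⟨i, rfl⟩⟩
  have hx' : AlgebraicIndependent k x' :=
    AlgebraicIndependent.of_comp A.val (hs.1.comp ε ε.injective)
  have htop : IntermediateField.adjoin k (Set.range x') = ⊤ := by
    apply IntermediateField.map_injective A.val
    rw [IntermediateField.adjoin_map, ← AlgHom.fieldRange_eq_map, IntermediateField.fieldRange_val,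
      ← Set.range_comp]
    rfl
  have hA := finrank_powers_of_adjoin_eq_top p e k A x' hx' htop
  let φ := iterateFrobenius L p e
  let A' : Subfield L := A.toSubfield
  let φA := iterateFrobenius A p e
  have hcomm : A'.map φ = φA.fieldRange.map (algebraMap A L) := by
    ext z
    constructor
    · rintro ⟨a, ha, rfl⟩
      exact ⟨φA ⟨a, ha⟩, ⟨⟨a, ha⟩, rfl⟩, by simp [φA, φ, iterateFrobenius_def]⟩
    · rintro ⟨_, ⟨a, rfl⟩, rfl⟩
      exact ⟨a, a.2, by simp [φA, φ, iterateFrobenius_def]⟩
  have hA' : A' = (⊤ : Subfield A).map (algebraMap A L) := by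
    ext z
    exact ⟨fun hz ↦ ⟨⟨z, hz⟩, trivial, rfl⟩, fun ⟨a, _, ha⟩ ↦ ha ▸ a.2⟩
  have h1 : relfinrank (A'.map φ) A' = (p ^ e) ^ n := by
    conv_lhs => arg 2; rw [hA']
    rw [hcomm, relfinrank_map_map, relfinrank_top_right, hA]
  have hB : (⊤ : Subfield L).map φ = φ.fieldRange := RingHom.fieldRange_eq_map φ |>.symm
  have h2 : relfinrank (A'.map φ) φ.fieldRange = Module.finrank A L := by
    rw [← hB, relfinrank_map_map, relfinrank_top_right]
    rfl
  have hle1 : A'.map φ ≤ A' := by
    rintro _ ⟨a, ha, rfl⟩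
    rw [iterateFrobenius_def]
    exact pow_mem ha _
  have hle2 : A'.map φ ≤ φ.fieldRange := by
    rintro _ ⟨a, ha, rfl⟩
    exact ⟨a, rfl⟩
  have h3 := relfinrank_mul_relfinrank hle1 (le_top (a := A'))
  have h4 := relfinrank_mul_relfinrank hle2 (le_top (a := φ.fieldRange))
  rw [h1, relfinrank_top_right A'] at h3
  rw [h2, relfinrank_top_right φ.fieldRange, ← h3, mul_comm ((p ^ e) ^ n)] at h4
  exact Nat.eq_of_mul_eq_mul_left (Module.finrank_pos (R := A) (M := L)) h4

end Groth.Agent.WeilLib
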