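import Groth.Agent.WeilLib.Trdeg
import Groth.Agent.WeilLib.FrobPow
import Groth.Agent.WeilLib.FrobField

/-!
# The degree of the Frobenius of a variety over a finite field
-/

universe u

set_option backward.isDefEq.respectTransparency false
set_option linter.style.haveILetI false

open CategoryTheory CategoryTheory.Limits AlgebraicGeometry FrobSch

namespace Groth.Agent.WeilLib

variable {X : Scheme.{u}}

theorem exists_evaluation_eq {x : X} (z : X.residueField x) :
    ∃ (U : X.Opens) (h : x ∈ U) (s : Γ(X, U)), X.evaluation U x h s = z := by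
  obtain ⟨z, rfl⟩ := IsLocalRing.residue_surjective z
  obtain ⟨U, hU, s, rfl⟩ := X.presheaf.exists_germ_eq (x := x) z
  exact ⟨U, hU, s, rfl⟩

theorem range_residueFieldMap_frobPow (p : ℕ) [Fact p.Prime] [IsCharP X p] (e : ℕ) (x : X) :
    Set.range ((frobPow p X e).residueFieldMap x) =
      Set.range fun z : X.residueField x ↦ z ^ (p ^ e) := by
  have key : ∀ (U : X.Opens) (h : x ∈ U) (h' : frobPow p X e x ∈ U) (s : Γ(X, U)),
      (frobPow p X e).residueFieldMap x (X.evaluation U _ h' s) =
        X.evaluation U x h s ^ (p ^ e) := by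
    intro U h h' s
    have hP : frobPow p X e ⁻¹ᵁ U ≤ U := (frobPow_preimage p e U).le
    refine (Scheme.evaluation_naturality_apply (frobPow p X e) x h' s).trans ?_
    have h1 : (frobPow p X e).app U s = (X.presheaf.map (homOfLE hP).op s) ^ (p ^ e) := by
      rw [← Scheme.Hom.appLE_eq_app]
      exact frobPow_app p e U _ le_rfl hP s
    refine (congrArg (X.evaluation _ x h') h1).trans ((map_pow _ _ _).trans ?_)
    congr 1
    exact congrArg (X.residue x) (TopCat.Presheaf.germ_res_apply X.presheaf _ x h' s)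
  ext w
  constructor
  · rintro ⟨z, rfl⟩
    obtain ⟨U, h', s, rfl⟩ := exists_evaluation_eq z
    have h : x ∈ U := by rw [← frobPow_apply p e x]; exact h'
    exact ⟨_, (key U h h' s).symm⟩
  · rintro ⟨z, rfl⟩
    obtain ⟨U, h, s, rfl⟩ := exists_evaluation_eq z
    have h' : frobPow p X e x ∈ U := by rw [frobPow_apply p e x]; exact h
    exact ⟨_, key U h h' s⟩

variable {k : Type u} [Field k] (f : X ⟶ Spec (CommRingCat.of k))

theorem essFiniteType_residueField [LocallyOfFiniteType f] (x : X) :
    letI := (kStr f x).toAlgebra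
    Algebra.EssFiniteType k (X.residueField x) := by
  classical
  obtain ⟨W, hW, hxW, -⟩ :=
    exists_isAffineOpen_mem_and_subset (X := X) (x := x) (U := ⊤) trivial
  letI := (secStr f W).toAlgebra
  letI := (kStr f x).toAlgebra
  haveI : Algebra.FiniteType k Γ(X, W) := finiteType_secStr f hW
  let ι : Γ(X, W) →ₐ[k] X.residueField x :=
    { (X.evaluation W x hxW).hom with
      commutes' := RingHom.congr_fun (evaluation_comp_secStr f hxW) }
  obtain ⟨s, hs⟩ := (inferInstance : Algebra.FiniteType k Γ(X, W)).out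
  refine IntermediateField.fg_top_iff.mp ⟨s.image ι, eq_top_iff.mpr fun z _ ↦ ?_⟩
  let A := IntermediateField.adjoin k (↑(s.image ι) : Set (X.residueField x))
  have hι : ∀ b, ι b ∈ A := by
    intro b
    have hb : ι b ∈ (Algebra.adjoin k (s : Set Γ(X, W))).map ι := ⟨b, hs ▸ Algebra.mem_top, rfl⟩
    rw [AlgHom.map_adjoin, ← Finset.coe_image] at hb
    exact IntermediateField.algebra_adjoin_le_adjoin _ _ hb
  obtain ⟨z, rfl⟩ := IsLocalRing.residue_surjective z
  let := X.presheaf.algebra_section_stalk ⟨x, hxW⟩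
  have := hW.isLocalization_stalk ⟨x, hxW⟩
  obtain ⟨⟨b, d⟩, hbd⟩ := IsLocalization.surj (hW.primeIdealOf ⟨x, hxW⟩).asIdeal.primeCompl z
  have h1 : HMul.hMul (α := X.residueField x) (IsLocalRing.residue _ z) (ι (d : Γ(X, W))) = ι b :=
    (map_mul (IsLocalRing.residue (X.presheaf.stalk x)) _ _).symm.trans
      (congrArg (IsLocalRing.residue (X.presheaf.stalk x)) hbd)
  have hd : ι (d : Γ(X, W)) ≠ 0 := by
    intro h0
    have h2 : IsUnit (algebraMap Γ(X, W) (X.presheaf.stalk x) d) :=
      IsLocalization.map_units _ d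
    exact (h2.map (IsLocalRing.residue (X.presheaf.stalk x))).ne_zero h0
  have h3 : (IsLocalRing.residue (X.presheaf.stalk x) z : X.residueField x) =
      ι b / ι (d : Γ(X, W)) := (eq_div_iff hd).mpr h1
  exact h3 ▸ div_mem (hι _) (hι _)

variable {k₀ : Type u} [Field k₀] [Finite k₀] [IsAlgClosed k] [Algebra k₀ k]
  {X₀ : Scheme.{u}} {f₀ : X₀ ⟶ Spec (CommRingCat.of k₀)} {π : X ⟶ X₀}

/-- The residue degree of the base-changed Frobenius at `x` is `q ^ dim closure {x}`. -/
theorem residueDegree_frob [LocallyOfFiniteType f]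
    (hπ : IsPullback π f f₀ (Spec.map (CommRingCat.ofHom (algebraMap k₀ k))))
    (FX : X₀ ⟶ X₀) (hFb : FX.base = 𝟙 _) (hle : ∀ U : X₀.Opens, U ≤ FX ⁻¹ᵁ U)
    (hFapp : ∀ (U : X₀.Opens) (s : Γ(X₀, U)), (FX.appLE U U (hle U)).hom s = s ^ Nat.card k₀)
    (F : X ⟶ X) (hFπ : F ≫ π = π ≫ FX) (hFg : F ≫ f = f) (x : X) :
    F.residueDegree x = Nat.card k₀ ^ WeilCoh.pdim X x := by
  obtain ⟨p, e, hp, hk, hX, G, -, hq, -, hF⟩ := exists_iso_frob hπ FX hFb hle hFapp F hFπ hFg
  haveI : CharP (X.residueField x) p := charP_of_injective_ringHom (kStr f x).injective p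
  letI := (kStr f x).toAlgebra
  haveI := essFiniteType_residueField f x
  have hdeg := finrank_powers p e k (X.residueField x) (exists_pdim_eq_trd f x).1
  rw [hq, ← hdeg]
  have hrange : Set.range (F.residueFieldMap x) =
      Set.range (iterateFrobenius (X.residueField x) p e) := by
    subst hF
    rw [Scheme.residueFieldMap_comp]
    have hsurj : Function.Surjective (G.inv.residueFieldMap (frobPow p X e x)) :=
      (ConcreteCategory.bijective_of_isIso _).2
    refine Eq.trans ?_ ((range_residueFieldMap_frobPow p e x).trans ?_)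
    · exact hsurj.range_comp (g := (frobPow p X e).residueFieldMap x)
    · exact congrArg Set.range (funext fun z ↦ (iterateFrobenius_def p e z).symm)
  letI := (F.residueFieldMap x).hom.toAlgebra
  let σ : X.residueField (F x) →+* (iterateFrobenius (X.residueField x) p e).fieldRange :=
    (F.residueFieldMap x).hom.codRestrict _ fun z ↦ by
      show F.residueFieldMap x z ∈ Set.range (iterateFrobenius (X.residueField x) p e)
      rw [← hrange]; exact ⟨z, rfl⟩
  have hσ : Function.Bijective σ := by
    refine ⟨σ.injective, fun w ↦ ?_⟩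
    have : (w : X.residueField x) ∈ Set.range (F.residueFieldMap x) := by
      rw [hrange]; exact w.2
    obtain ⟨z, hz⟩ := this
    exact ⟨z, Subtype.ext hz⟩
  exact Algebra.finrank_eq_of_equiv_equiv (RingEquiv.ofBijective σ hσ) (RingEquiv.refl _)
    (RingHom.ext fun _ ↦ rfl)

end Groth.Agent.WeilLib
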