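import Groth.Agent.WeilLib.Lefschetz
import Groth.Agent.WeilLib.FrobDeg
import Mathlib.LinearAlgebra.Matrix.Charpoly.Coeff
import Mathlib.LinearAlgebra.Charpoly.ToMatrix
import Mathlib.FieldTheory.RatFunc.AsPolynomial

/-!
# Endomorphisms scaling the trace: duality of characteristic polynomials
-/

universe u v

set_option linter.unusedSectionVars false
set_option linter.style.haveILetI false

open CategoryTheory AlgebraicGeometry WeilCoh Polynomial

namespace Groth.Agent.WeilLib

variable {k : Type u} [Field k] [IsAlgClosed k] {K : Type v} [Field K] [CharZero K] (T : Theory k K)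

/-- The Frobenius multiplies the trace by `q ^ dim`. -/
theorem tr_pull_frob {k₀ : Type u} [Field k₀] [Finite k₀] [Algebra k₀ k]
    {X : Scheme.{u}} (f : X ⟶ Spec (CommRingCat.of k₀))
    (FX : X ⟶ X) (hFb : FX.base = 𝟙 _) (hle : ∀ U : X.Opens, U ≤ FX ⁻¹ᵁ U)
    (hFapp : ∀ (U : X.Opens) (s : Γ(X, U)), (FX.appLE U U (hle U)).hom s = s ^ Nat.card k₀)
    (Xb : Var k) (π : Xb.obj.left ⟶ X)
    (hπ : IsPullback π Xb.obj.hom f (Spec.map (CommRingCat.ofHom (algebraMap k₀ k))))
    (F : Xb ⟶ Xb) (hF : sm F ≫ π = π ≫ FX) (a : T.H Xb) :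
    T.tr Xb (T.pull F a) = (Nat.card k₀ : K) ^ dim Xb.obj.left * T.tr Xb a := by
  have hdeg : (sm F).residueDegree (genericPoint ↥Xb.obj.left) =
      Nat.card k₀ ^ dim Xb.obj.left := by
    rw [residueDegree_frob Xb.obj.hom hπ FX hFb hle hFapp (sm F) hF (sm_w F), pdim_genericPoint]
  have hgen : sm F (genericPoint ↥Xb.obj.left) = genericPoint ↥Xb.obj.left := by
    have hne : (sm F).residueDegree (genericPoint ↥Xb.obj.left) ≠ 0 := by
      rw [hdeg]
      exact pow_ne_zero _ Nat.card_pos.ne'
    have h := pdim_eq_of_residueDegree_ne_zero Xb.obj.hom (sm F) Xb.obj.hom (sm_w F) hne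
    by_contra hne'
    have h2 := pdim_lt Xb.obj.hom ((genericPoint_spec _).specializes (trivial : sm F _ ∈ _)) hne'
    omega
  have h := tr_cl_mul_pull T F (genericPoint ↥Xb.obj.left) a
  rw [hgen, cl_genericPoint, one_mul, one_mul, hdeg, Nat.cast_pow] at h
  exact h

variable {X : Var k} (F : X ⟶ X) {c : K} (hF : ∀ a, T.tr X (T.pull F a) = c * T.tr X a)

include hF in
/-- In dual bases the matrices of the two complementary degrees are adjoint up to the scalar. -/
theorem exists_matrices {i j : ℤ} (h : j + i = 2 * dZ X) :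
    ∃ M N : Matrix (Fin (Module.finrank K (T.gr X i))) (Fin (Module.finrank K (T.gr X i))) K,
      N.transpose * M = Matrix.diagonal (fun _ ↦ c) ∧
      LinearMap.det (T.pullDeg F i) = M.det ∧ LinearMap.det (T.pullDeg F j) = N.det ∧
      LinearMap.charpoly (T.pullDeg F i) = M.charpoly ∧
      LinearMap.charpoly (T.pullDeg F j) = N.charpoly := by
  classical
  let e := Module.finBasis K (T.gr X i)
  obtain ⟨f, hf, hrepr⟩ := exists_dualBasis T h e
  refine ⟨LinearMap.toMatrix e e (T.pullDeg F i), LinearMap.toMatrix f f (T.pullDeg F j), ?_,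
    (LinearMap.det_toMatrix _ _).symm, (LinearMap.det_toMatrix _ _).symm,
    (LinearMap.charpoly_toMatrix _ _).symm, (LinearMap.charpoly_toMatrix _ _).symm⟩
  ext a b
  rw [Matrix.mul_apply, Matrix.diagonal_apply]
  calc ∑ r, (LinearMap.toMatrix f f (T.pullDeg F j)).transpose a r *
        LinearMap.toMatrix e e (T.pullDeg F i) r b
      = ∑ r, e.repr (T.pullDeg F i (e b)) r *
          T.tr X ((T.pullDeg F j (f a) : T.H X) * (e r : T.H X)) := by
        refine Finset.sum_congr rfl fun r _ ↦ ?_
        rw [Matrix.transpose_apply, LinearMap.toMatrix_apply, LinearMap.toMatrix_apply, hrepr,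
          mul_comm]
    _ = T.tr X ((T.pullDeg F j (f a) : T.H X) * (T.pullDeg F i (e b) : T.H X)) := by
        conv_rhs => rw [← e.sum_repr (T.pullDeg F i (e b))]
        push_cast
        rw [Finset.mul_sum, map_sum]
        refine Finset.sum_congr rfl fun r _ ↦ ?_
        rw [mul_smul_comm, map_smul, smul_eq_mul]
    _ = _ := by
        rw [pullDeg_coe, pullDeg_coe, ← map_mul (T.pull F), hF, hf]
        rcases eq_or_ne a b with rfl | hne
        · simp
        · simp [hne, hne.symm]

include hF in
theorem det_mul_det {i j : ℤ} (h : j + i = 2 * dZ X) :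
    LinearMap.det (T.pullDeg F j) * LinearMap.det (T.pullDeg F i) =
      c ^ Module.finrank K (T.gr X i) := by
  obtain ⟨M, N, hMN, h1, h2, -, -⟩ := exists_matrices T F hF h
  rw [h1, h2]
  have := congrArg Matrix.det hMN
  rw [Matrix.det_mul, Matrix.det_transpose, Matrix.det_diagonal, Finset.prod_const,
    Finset.card_univ, Fintype.card_fin] at this
  exact this

include hF in
theorem det_smul_reverse {i j : ℤ} (h : j + i = 2 * dZ X) :
    LinearMap.det (T.pullDeg F i) • (LinearMap.charpoly (T.pullDeg F j)).reverse =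
      (-1 : K[X]) ^ Module.finrank K (T.gr X i) *
        (LinearMap.charpoly (T.pullDeg F i)).comp (C c * Polynomial.X) := by
  obtain ⟨M, N, hMN, h1, -, h3, h4⟩ := exists_matrices T F hF h
  rw [h1, h3, h4, Matrix.reverse_charpoly, Polynomial.smul_eq_C_mul, Matrix.charpolyRev]
  have hcomp : M.charpoly.comp (C c * Polynomial.X) =
      ((Matrix.diagonal fun _ ↦ C c * Polynomial.X) - M.map C).det := by
    rw [Matrix.charpoly, ← coe_compRingHom_apply, RingHom.map_det]
    congr 1
    ext a b
    rcases eq_or_ne a b with rfl | hne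
    · simp
    · simp [Matrix.charmatrix_apply_ne _ _ _ hne, Matrix.diagonal_apply_ne _ hne]
  rw [hcomp, ← Matrix.det_transpose (1 - (Polynomial.X : K[X]) • N.map C), mul_comm,
    show C M.det = (M.map C).det from RingHom.map_det C M, ← Matrix.det_mul]
  have hX : (1 - (Polynomial.X : K[X]) • N.map C).transpose * M.map C =
      -((Matrix.diagonal fun _ ↦ C c * Polynomial.X) - M.map C) := by
    rw [neg_sub, Matrix.transpose_sub, Matrix.transpose_one, Matrix.transpose_smul, sub_mul, one_mul,
      Matrix.smul_mul, ← Matrix.transpose_map, ← Matrix.map_mul, hMN, Matrix.diagonal_map (map_zero C),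
      ← Matrix.diagonal_smul]
    congr 2
    funext a
    exact mul_comm (Polynomial.X : K[X]) (C c)
  rw [hX, Matrix.det_neg, Fintype.card_fin]

end Groth.Agent.WeilLib
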