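import Groth.Agent.WeilLib.Cycle
import Groth.Agent.WeilLib.Adjoint

/-!
# Iterates of the base-changed Frobenius and rational points
-/

universe u v

set_option backward.isDefEq.respectTransparency false
set_option linter.style.haveILetI false
set_option linter.unusedSectionVars false

open CategoryTheory CategoryTheory.Limits AlgebraicGeometry FrobSch WeilCoh

namespace Groth.Agent.WeilLib

/-- Iterates of an endomorphism. -/
def iter {C : Type*} [Category C] {X : C} (f : X ⟶ X) : ℕ → (X ⟶ X)
  | 0 => 𝟙 X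
  | m + 1 => iter f m ≫ f

theorem frobPow_add (p : ℕ) [Fact p.Prime] (X : Scheme.{u}) [IsCharP X p] (a b : ℕ) :
    frobPow p X (a + b) = frobPow p X a ≫ frobPow p X b := by
  induction b with
  | zero => simp [frobPow]
  | succ b ih => rw [← add_assoc, frobPow, frobPow, ih, Category.assoc]

theorem sm_iter {k : Type u} [Field k] {X : Var k} (F : X ⟶ X) (m : ℕ) :
    sm (iter F m) = iter (sm F) m := by
  induction m with
  | zero => rfl
  | succ m ih =>
    show sm (iter F m) ≫ sm F = iter (sm F) m ≫ sm F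
    rw [ih]

theorem iter_comm {C : Type*} [Category C] {X Y : C} (f : X ⟶ X) (g : Y ⟶ Y) (π : X ⟶ Y)
    (h : f ≫ π = π ≫ g) (m : ℕ) : iter f m ≫ π = π ≫ iter g m := by
  induction m with
  | zero => simp [iter]
  | succ m ih => rw [iter, iter, Category.assoc, h, reassoc_of% ih]

theorem iter_frobPow (p : ℕ) [Fact p.Prime] {X : Scheme.{u}} [IsCharP X p] (e : ℕ) (G : X ≅ X) (m : ℕ) :
    ∃ H : X ≅ X, iter (frobPow p X e ≫ G.hom) m = frobPow p X (e * m) ≫ H.hom := by
  induction m with
  | zero => exact ⟨Iso.refl X, by simp [iter, frobPow]⟩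
  | succ m ih =>
    obtain ⟨H, hH⟩ := ih
    refine ⟨H ≪≫ G, ?_⟩
    rw [iter, hH, Nat.mul_succ, frobPow_add, Iso.trans_hom, Category.assoc, Category.assoc,
      ← reassoc_of% (frobPow_comp p H.hom e)]

theorem iter_frobPow_self (p : ℕ) [Fact p.Prime] (X : Scheme.{u}) [IsCharP X p] (e : ℕ) (m : ℕ) :
    iter (frobPow p X e) m = frobPow p X (e * m) := by
  induction m with
  | zero => simp [iter, frobPow]
  | succ m ih => rw [iter, ih, Nat.mul_succ, frobPow_add]

/-- The residue degree of a Frobenius iterate followed by an automorphism. -/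
theorem residueDegree_frobPow_comp {k : Type u} [Field k] [PerfectField k] {X : Scheme.{u}}
    (f : X ⟶ Spec (CommRingCat.of k)) [LocallyOfFiniteType f] (p : ℕ) [Fact p.Prime] [CharP k p]
    [IsCharP X p] (E : ℕ) (H : X ≅ X) (x : X) :
    (frobPow p X E ≫ H.hom).residueDegree x = (p ^ E) ^ WeilCoh.pdim X x := by
  haveI : CharP (X.residueField x) p := charP_of_injective_ringHom (kStr f x).injective p
  letI := (kStr f x).toAlgebra
  haveI := essFiniteType_residueField f x
  rw [← finrank_powers p E k (X.residueField x) (exists_pdim_eq_trd f x).1]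
  have hrange : Set.range ((frobPow p X E ≫ H.hom).residueFieldMap x) =
      Set.range (iterateFrobenius (X.residueField x) p E) := by
    rw [Scheme.residueFieldMap_comp]
    have hsurj : Function.Surjective (H.hom.residueFieldMap (frobPow p X E x)) :=
      (ConcreteCategory.bijective_of_isIso _).2
    refine Eq.trans ?_ ((range_residueFieldMap_frobPow p E x).trans ?_)
    · exact hsurj.range_comp (g := (frobPow p X E).residueFieldMap x)
    · exact congrArg Set.range (funext fun z ↦ (iterateFrobenius_def p E z).symm)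
  letI := ((frobPow p X E ≫ H.hom).residueFieldMap x).hom.toAlgebra
  let σ : X.residueField ((frobPow p X E ≫ H.hom) x) →+*
      (iterateFrobenius (X.residueField x) p E).fieldRange :=
    ((frobPow p X E ≫ H.hom).residueFieldMap x).hom.codRestrict _ fun z ↦ by
      show (frobPow p X E ≫ H.hom).residueFieldMap x z ∈
        Set.range (iterateFrobenius (X.residueField x) p E)
      rw [← hrange]; exact ⟨z, rfl⟩
  have hσ : Function.Bijective σ := by
    refine ⟨σ.injective, fun w ↦ ?_⟩
    have : (w : X.residueField x) ∈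
        Set.range ((frobPow p X E ≫ H.hom).residueFieldMap x) := by
      rw [hrange]; exact w.2
    obtain ⟨z, hz⟩ := this
    exact ⟨z, Subtype.ext hz⟩
  exact Algebra.finrank_eq_of_equiv_equiv (RingEquiv.ofBijective σ hσ) (RingEquiv.refl _)
    (RingHom.ext fun _ ↦ rfl)

/-- The germ of a pulled-back function along a Frobenius iterate lies in a power of the maximal ideal. -/
theorem germ_app_frobPow_comp_mem {X : Scheme.{u}} (p : ℕ) [Fact p.Prime] [IsCharP X p] (E : ℕ)
    (H : X ≅ X) {U : X.Opens} (s : Γ(X, U)) (w : X) (hw : w ∈ (frobPow p X E ≫ H.hom) ⁻¹ᵁ U)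
    (hs : (frobPow p X E ≫ H.hom) w ∉ X.basicOpen s) :
    X.presheaf.germ _ w hw ((frobPow p X E ≫ H.hom).app U s) ∈
      IsLocalRing.maximalIdeal (X.presheaf.stalk w) ^ (p ^ E) := by
  have hP : frobPow p X E ⁻¹ᵁ (H.hom ⁻¹ᵁ U) ≤ H.hom ⁻¹ᵁ U := (frobPow_preimage p E _).le
  let t := X.presheaf.map (homOfLE hP).op (H.hom.app U s)
  have h1 : (frobPow p X E ≫ H.hom).app U s = t ^ (p ^ E) := by
    show (frobPow p X E).app (H.hom ⁻¹ᵁ U) (H.hom.app U s) = _
    rw [← Scheme.Hom.appLE_eq_app]
    exact frobPow_app p E _ _ le_rfl hP _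
  have hm : X.presheaf.germ _ w hw t ∈ IsLocalRing.maximalIdeal (X.presheaf.stalk w) := by
    rw [IsLocalRing.mem_maximalIdeal, mem_nonunits_iff]
    intro hu
    have hu' : IsUnit (X.presheaf.germ _ w hw ((frobPow p X E ≫ H.hom).app U s)) := by
      rw [h1, map_pow]; exact hu.pow _
    have := (X.mem_basicOpen _ w hw).mpr hu'
    rw [← Scheme.preimage_basicOpen] at this
    exact hs this
  rw [h1, map_pow]
  exact Ideal.pow_mem_pow hm _

variable {k : Type u} [Field k]

/-- The composite `Spec κ(x) ⟶ X ⟶ Spec k` is induced by the structure map. -/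
theorem fromSpecResidueField_comp {X : Scheme.{u}} (f : X ⟶ Spec (CommRingCat.of k)) (x : X) :
    X.fromSpecResidueField x ≫ f = Spec.map (CommRingCat.ofHom (kStr f x)) := by
  have h : f = X.toSpecΓ ≫
      Spec.map ((Scheme.ΓSpecIso (CommRingCat.of k)).inv ≫ f.appTop) := by
    rw [Spec.map_comp, ← Scheme.toSpecΓ_naturality_assoc, ← SpecMap_ΓSpecIso_hom, ← Spec.map_comp,
      Iso.inv_hom_id, Spec.map_id, Category.comp_id]
  conv_lhs => rw [h, Scheme.fromSpecResidueField, Category.assoc, Scheme.fromSpecStalk_toSpecΓ_assoc]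
  rw [← Spec.map_comp, ← Spec.map_comp]
  congr 1
  ext a
  show X.residue x (X.presheaf.germ ⊤ x trivial (f.appTop ((Scheme.ΓSpecIso (CommRingCat.of k)).inv a))) =
    X.evaluation ⊤ x trivial (f.appLE ⊤ ⊤ le_top ((Scheme.ΓSpecIso (CommRingCat.of k)).inv a))
  exact congrArg (fun φ : Γ(Spec (CommRingCat.of k), ⊤) ⟶ Γ(X, ⊤) ↦
    X.evaluation ⊤ x trivial (φ ((Scheme.ΓSpecIso (CommRingCat.of k)).inv a)))
    (Scheme.Hom.appLE_eq_app f).symm

variable [IsAlgClosed k]

/-- Two sections with the same image are equal. -/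
theorem section_ext {X : Var k} {s t : ptVar k ⟶ X} {p₀ : (ptVar k).obj.left}
    (h : sm s p₀ = sm t p₀) : s = t := by
  have hcl : IsClosed ({sm s p₀} : Set X.obj.left) := by
    have he : IsClosedImmersion (sm s) := by
      have : IsClosedImmersion (sm s ≫ X.obj.hom) := by
        rw [sm_w s]
        show IsClosedImmersion (𝟙 (Spec (CommRingCat.of k)))
        infer_instance
      exact IsClosedImmersion.of_comp (sm s) X.obj.hom
    have := (sm s).isClosedEmbedding.isClosedMap _ (Set.subsingleton_singleton.isClosed : IsClosed {p₀})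
    rwa [Set.image_singleton] at this
  haveI : IsClosedImmersion (X.obj.left.fromSpecResidueField (sm s p₀)) :=
    isClosed_singleton_iff_isClosedImmersion.mp hcl
  have key : ∀ a : ptVar k ⟶ X, sm a p₀ = sm s p₀ →
      ∃ φ, sm a = Spec.map φ ≫ X.obj.left.fromSpecResidueField (sm s p₀) ∧
        CommRingCat.ofHom (kStr X.obj.hom (sm s p₀)) ≫ φ = 𝟙 (CommRingCat.of k) := by
    intro a ha
    obtain ⟨⟨y, φ⟩, hφ⟩ := (Scheme.SpecToEquivOfField k X.obj.left).symm.surjective (sm a)
    have hy : y = sm s p₀ := by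
      have := congrArg (fun g : Spec (CommRingCat.of k) ⟶ X.obj.left ↦ g p₀) hφ
      simp only [Scheme.SpecToEquivOfField, Equiv.coe_fn_symm_mk] at this
      refine Eq.trans ?_ (this.trans ha)
      exact (Scheme.fromSpecResidueField_apply _ _).symm
    subst hy
    refine ⟨φ, hφ.symm, Spec.map_injective ?_⟩
    rw [Spec.map_comp, Spec.map_id, ← fromSpecResidueField_comp, ← Category.assoc]
    refine Eq.trans ?_ (sm_w a)
    rw [← hφ]
    rfl
  obtain ⟨φ, hφ, hφ'⟩ := key s rfl
  obtain ⟨ψ, hψ, hψ'⟩ := key t h.symm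
  haveI : IsIso (CommRingCat.ofHom (kStr X.obj.hom (sm s p₀))) :=
    (ConcreteCategory.isIso_iff_bijective _).mpr (kStr_bijective X.obj.hom hcl)
  obtain rfl : φ = ψ := (cancel_epi (CommRingCat.ofHom (kStr X.obj.hom (sm s p₀)))).mp (hφ'.trans hψ'.symm)
  exact ObjectProperty.hom_ext _ (Over.OverMorphism.ext (hφ.trans hψ.symm))

theorem isClosed_image_section {X : Var k} (s : ptVar k ⟶ X) (p₀ : (ptVar k).obj.left) :
    IsClosed ({sm s p₀} : Set X.obj.left) := by
  have : IsClosedImmersion (sm s ≫ X.obj.hom) := by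
        rw [sm_w s]
        show IsClosedImmersion (𝟙 (Spec (CommRingCat.of k)))
        infer_instance
  have := IsClosedImmersion.of_comp (sm s) X.obj.hom
  have := (sm s).isClosedEmbedding.isClosedMap _ (Set.subsingleton_singleton.isClosed : IsClosed {p₀})
  rwa [Set.image_singleton] at this

end Groth.Agent.WeilLib
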