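import Groth.Agent.WeilLib.Iterate
import Mathlib.RingTheory.Nakayama
import Mathlib.AlgebraicGeometry.Noetherian

/-!
# The graph of a Frobenius iterate meets the diagonal transversally in the fixed points
-/

universe u v

set_option backward.isDefEq.respectTransparency false
set_option linter.style.haveILetI false
set_option linter.unusedSectionVars false

open CategoryTheory CategoryTheory.Limits AlgebraicGeometry FrobSch WeilCoh

namespace Groth.Agent.WeilLib

theorem appLE_congr_hom {X Y : Scheme.{u}} {f g : X ⟶ Y} (h : f = g) {U : Y.Opens} {V : X.Opens}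
    (e : V ≤ f ⁻¹ᵁ U) (e' : V ≤ g ⁻¹ᵁ U) : f.appLE U V e = g.appLE U V e' := by
  subst h; rfl

variable {X P : Scheme.{u}} {p q : P ⟶ X} {j d : X ⟶ P} {Fm : X ⟶ X}

theorem residueFieldMap_surjective_of_meet (hjp : j ≫ p = 𝟙 X) (hjq : j ≫ q = Fm)
    (hdq : d ≫ q = 𝟙 X) {w : X} (hjd : j w = d w) :
    Function.Surjective (Fm.residueFieldMap w) := by
  have key : ∀ (g : X ⟶ X), g = 𝟙 X → Function.Surjective (g.residueFieldMap w) := by
    rintro _ rfl
    rw [Scheme.residueFieldMap_id]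
    exact fun a ↦ ⟨a, rfl⟩
  have hq : ∀ z, z = d w → Function.Surjective (q.residueFieldMap z) := by
    rintro _ rfl b
    have h1 := key (d ≫ q) hdq
    rw [Scheme.residueFieldMap_comp] at h1
    obtain ⟨a, ha⟩ := h1 (d.residueFieldMap w b)
    exact ⟨a, (d.residueFieldMap w).hom.injective ha⟩
  have hj : Function.Surjective (j.residueFieldMap w) := by
    have h1 := key (j ≫ p) hjp
    rw [Scheme.residueFieldMap_comp] at h1
    exact fun a ↦ (h1 a).elim fun b hb ↦ ⟨p.residueFieldMap (j w) b, hb⟩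
  subst hjq
  rw [Scheme.residueFieldMap_comp]
  exact hj.comp (hq _ hjd)

/-- The multiplicity of a meeting point of the graph and the diagonal is one. -/
theorem preimMult_eq_one [IsLocallyNoetherian X] (pc : ℕ) [Fact pc.Prime] [IsCharP X pc] {E : ℕ}
    (hE : 2 ≤ pc ^ E) (H : X ≅ X) (hFm : Fm = frobPow pc X E ≫ H.hom)
    (hjp : j ≫ p = 𝟙 X) (hjq : j ≫ q = Fm) (hdp : d ≫ p = 𝟙 X) (hdq : d ≫ q = 𝟙 X)
    (η w : X) (hη : d w ∈ closure ({j η} : Set P)) (hw : Fm w = w) :
    preimMult d (j η) w hη = 1 := by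
  have hpd : ∀ x, p (d x) = x := fun x ↦ by rw [← Scheme.Hom.comp_apply, hdp]; rfl
  have hqd : ∀ x, q (d x) = x := fun x ↦ by rw [← Scheme.Hom.comp_apply, hdq]; rfl
  let m := IsLocalRing.maximalIdeal (X.presheaf.stalk w)
  let I := Ideal.map (d.stalkMap w).hom
    (RingHom.ker (Cyc.specMap (d w) (j η) (specializes_iff_mem_closure.mpr hη)))
  have hIm : I ≤ m := by
    rw [Ideal.map_le_iff_le_comap, IsLocalRing.maximalIdeal_comap]
    exact IsLocalRing.le_maximalIdeal (RingHom.ker_isPrime _).ne_top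
  have hle : m ≤ I ⊔ m • m := by
    intro a ha
    obtain ⟨U, hwU, s, rfl⟩ := X.presheaf.exists_germ_eq (x := w) a
    have hbs : w ∉ X.basicOpen s := fun h ↦
      (IsLocalRing.mem_maximalIdeal _).mp ha ((X.mem_basicOpen s w hwU).mp h)
    have hFw : w ∈ Fm ⁻¹ᵁ U := by show Fm w ∈ U; rw [hw]; exact hwU
    let W : P.Opens := q ⁻¹ᵁ U ⊓ p ⁻¹ᵁ (Fm ⁻¹ᵁ U)
    have hdW : d w ∈ W := ⟨by show q (d w) ∈ U; rw [hqd]; exact hwU,
      by show p (d w) ∈ Fm ⁻¹ᵁ U; rw [hpd]; exact hFw⟩
    let c : Γ(P, W) := q.appLE U W inf_le_left s - p.appLE (Fm ⁻¹ᵁ U) W inf_le_right (Fm.app U s)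
    have hjη : j η ∈ W := (specializes_iff_mem_closure.mpr hη).mem_open W.2 hdW
    have hker : P.presheaf.germ W (d w) hdW c ∈
        RingHom.ker (Cyc.specMap (d w) (j η) (specializes_iff_mem_closure.mpr hη)) := by
      rw [RingHom.mem_ker]
      show P.residue (j η) (P.presheaf.stalkSpecializes _ (P.presheaf.germ W (d w) hdW c)) = 0
      rw [← CommRingCat.comp_apply (f := P.presheaf.germ W (d w) hdW), TopCat.Presheaf.germ_stalkSpecializes]
      apply (j.residueFieldMap η).hom.injective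
      rw [map_zero]
      refine (Scheme.evaluation_naturality_apply j η hjη c).trans ?_
      have hV : j ⁻¹ᵁ W ≤ Fm ⁻¹ᵁ U := fun x hx ↦ by
        rw [← hjq]; exact hx.1
      have hjc : j.app W c = 0 := by
        rw [← Scheme.Hom.appLE_eq_app, map_sub, sub_eq_zero]
        rw [← CommRingCat.comp_apply, ← CommRingCat.comp_apply, Scheme.Hom.appLE_comp_appLE,
          Scheme.Hom.appLE_comp_appLE, appLE_congr_hom hjq _ hV,
          appLE_congr_hom hjp _ (show j ⁻¹ᵁ W ≤ (𝟙 X : X ⟶ X) ⁻¹ᵁ (Fm ⁻¹ᵁ U) from hV)]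
        simp [Scheme.Hom.appLE]
      rw [hjc, map_zero]
    have h1 : (d.stalkMap w).hom (P.presheaf.germ W (d w) hdW c) =
        X.presheaf.germ U w hwU s - X.presheaf.germ (Fm ⁻¹ᵁ U) w hFw (Fm.app U s) := by
      refine (Scheme.Hom.germ_stalkMap_apply d W w hdW c).trans ?_
      have hV1 : d ⁻¹ᵁ W ≤ U := fun x hx ↦ by rw [← hqd x]; exact hx.1
      have hV2 : d ⁻¹ᵁ W ≤ Fm ⁻¹ᵁ U := fun x hx ↦ by rw [← hpd x]; exact hx.2
      rw [← Scheme.Hom.appLE_eq_app, map_sub, map_sub]
      congr 1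
      · rw [← CommRingCat.comp_apply (f := q.appLE U W _), Scheme.Hom.appLE_comp_appLE,
          appLE_congr_hom hdq _ (show d ⁻¹ᵁ W ≤ (𝟙 X : X ⟶ X) ⁻¹ᵁ U from hV1)]
        simp only [Scheme.Hom.appLE, Scheme.Hom.id_app, Category.id_comp]
        exact TopCat.Presheaf.germ_res_apply X.presheaf _ w hdW s
      · rw [← CommRingCat.comp_apply (f := p.appLE (Fm ⁻¹ᵁ U) W _), Scheme.Hom.appLE_comp_appLE,
          appLE_congr_hom hdp _ (show d ⁻¹ᵁ W ≤ (𝟙 X : X ⟶ X) ⁻¹ᵁ (Fm ⁻¹ᵁ U) from hV2)]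
        simp only [Scheme.Hom.appLE, Scheme.Hom.id_app, Category.id_comp]
        exact TopCat.Presheaf.germ_res_apply X.presheaf _ w hdW _
    have h2 : X.presheaf.germ (Fm ⁻¹ᵁ U) w hFw (Fm.app U s) ∈ m • m := by
      rw [smul_eq_mul, ← pow_two]
      refine Ideal.pow_le_pow_right hE ?_
      subst hFm
      exact germ_app_frobPow_comp_mem pc E H s w hFw (by rw [hw]; exact hbs)
    rw [← sub_add_cancel (X.presheaf.germ U w hwU s) (X.presheaf.germ (Fm ⁻¹ᵁ U) w hFw (Fm.app U s)),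
      ← h1]
    exact Submodule.add_mem_sup (Ideal.mem_map_of_mem _ hker) h2
  have hI : I = m := le_antisymm hIm
    (Submodule.le_of_le_smul_of_le_jacobson_bot (IsNoetherian.noetherian m)
      (le_of_eq (IsLocalRing.jacobson_eq_maximalIdeal ⊥ bot_ne_top).symm) hle)
  haveI : IsSimpleModule (X.presheaf.stalk w) (X.presheaf.stalk w ⧸ I) := by
    rw [isSimpleModule_iff_isCoatom, hI]
    exact Ideal.isMaximal_def.mp (IsLocalRing.maximalIdeal.isMaximal _)
  show (Module.length (X.presheaf.stalk w) (X.presheaf.stalk w ⧸ I)).toNat = 1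
  rw [Module.length_eq_one]
  rfl

theorem finite_of_forall_isClosed {T : Type*} [TopologicalSpace T] [TopologicalSpace.NoetherianSpace T]
    [QuasiSober T] {S : Set T} (hS : IsClosed S) (h : ∀ w ∈ S, IsClosed ({w} : Set T)) : S.Finite := by
  obtain ⟨C, hC, hCc, hCi, rfl⟩ :=
    TopologicalSpace.NoetherianSpace.exists_finite_set_isClosed_irreducible hS
  refine hC.sUnion fun t ht ↦ ?_
  have hgen := (hCi t ht).isGenericPoint_genericPoint (hCc t ht)
  have hmem : (hCi t ht).genericPoint ∈ ⋃₀ C := ⟨t, ht, hgen.mem⟩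
  rw [← hgen.def, (h _ hmem).closure_eq]
  exact Set.finite_singleton _

section Theory

variable {k : Type u} [Field k] [IsAlgClosed k] {K : Type v} [Field K] [CharZero K] (T : Theory k K)

/-- The trace formula counts the fixed closed points of a Frobenius iterate. -/
theorem sum_trace_eq_card {Xb Pb : Var k} (p q : Pb ⟶ Xb) (hP : IsProd p q) (Fm : Xb ⟶ Xb)
    (pc : ℕ) [Fact pc.Prime] [CharP k pc] [IsCharP Xb.obj.left pc] {E : ℕ} (hE : 2 ≤ pc ^ E)
    (H : Xb.obj.left ≅ Xb.obj.left) (hFm : sm Fm = frobPow pc Xb.obj.left E ≫ H.hom) :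
    {w : Xb.obj.left | IsClosed ({w} : Set Xb.obj.left) ∧ sm Fm w = w}.Finite ∧
    ∑ i ∈ Finset.range (2 * dim Xb.obj.left + 1),
        (-1 : K) ^ i * LinearMap.trace K ↥(T.gr Xb (i : ℤ)) (T.pullDeg Fm (i : ℤ)) =
      (Nat.card {w : Xb.obj.left // IsClosed ({w} : Set Xb.obj.left) ∧ sm Fm w = w} : K) := by
  classical
  let mk : ∀ a : Xb.obj.left ⟶ Xb.obj.left, a ≫ Xb.obj.hom = Xb.obj.hom → (Xb ⟶ Pb) := fun a ha ↦
    ObjectProperty.homMk (Over.homMk (hP.lift (𝟙 _) a (by rw [Category.id_comp, ha])) (by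
      rw [← sm_w p, ← Category.assoc, hP.lift_fst, Category.id_comp]))
  let j := mk (sm Fm) (sm_w Fm)
  let d := mk (𝟙 _) (Category.id_comp _)
  have hjp : j ≫ p = 𝟙 Xb := ObjectProperty.hom_ext _ (Over.OverMorphism.ext (hP.lift_fst _ _ _))
  have hjq : j ≫ q = Fm := ObjectProperty.hom_ext _ (Over.OverMorphism.ext (hP.lift_snd _ _ _))
  have hdp : d ≫ p = 𝟙 Xb := ObjectProperty.hom_ext _ (Over.OverMorphism.ext (hP.lift_fst _ _ _))
  have hdq : d ≫ q = 𝟙 Xb := ObjectProperty.hom_ext _ (Over.OverMorphism.ext (hP.lift_snd _ _ _))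
  have sjp : sm j ≫ sm p = 𝟙 _ := congrArg sm hjp
  have sjq : sm j ≫ sm q = sm Fm := congrArg sm hjq
  have sdp : sm d ≫ sm p = 𝟙 _ := congrArg sm hdp
  have sdq : sm d ≫ sm q = 𝟙 _ := congrArg sm hdq
  haveI : IsClosedImmersion (sm j) := by
    have : IsClosedImmersion (sm j ≫ sm p) := by rw [sjp]; infer_instance
    have : IsSeparated (sm p) := by
      have : IsSeparated (sm p ≫ Xb.obj.hom) := by rw [sm_w p]; infer_instance
      exact IsSeparated.of_comp (sm p) Xb.obj.hom
    exact IsClosedImmersion.of_comp (sm j) (sm p)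
  let η := genericPoint ↥Xb.obj.left
  have hclosure : closure ({sm j η} : Set Pb.obj.left) = Set.range (sm j) := by
    rw [← Set.image_singleton, (sm j).isClosedEmbedding.closure_image_eq, genericPoint_closure,
      Set.image_univ]
  let S := (sm d) ⁻¹' closure ({sm j η} : Set Pb.obj.left)
  have hmem : ∀ w, w ∈ S ↔ IsClosed ({w} : Set Xb.obj.left) ∧ sm Fm w = w := by
    intro w
    show sm d w ∈ closure _ ↔ _
    rw [hclosure]
    constructor
    · rintro ⟨w', hw'⟩
      obtain rfl : w' = w := by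
        have h1 := congrArg (sm p) hw'
        rwa [← Scheme.Hom.comp_apply, ← Scheme.Hom.comp_apply, sjp, sdp] at h1
      have hfix : sm Fm w' = w' := by
        have h1 := congrArg (sm q) hw'
        rwa [← Scheme.Hom.comp_apply, ← Scheme.Hom.comp_apply, sjq, sdq] at h1
      refine ⟨(pdim_eq_zero_iff Xb.obj.hom w').mp ?_, hfix⟩
      have hsurj := residueFieldMap_surjective_of_meet sjp sjq sdq hw'
      have hdeg : (sm Fm).residueDegree w' = 1 := by
        letI := ((sm Fm).residueFieldMap w').hom.toAlgebra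
        exact Module.finrank_eq_of_rank_eq (n := 1) (by
          rw [← (LinearEquiv.ofBijective (Algebra.linearMap (Xb.obj.left.residueField (sm Fm w'))
              (Xb.obj.left.residueField w'))
            ⟨(algebraMap (Xb.obj.left.residueField (sm Fm w'))
              (Xb.obj.left.residueField w')).injective, hsurj⟩).rank_eq]
          simp)
      rw [hFm, residueDegree_frobPow_comp Xb.obj.hom] at hdeg
      exact (pow_eq_one_iff.mp hdeg).resolve_left (by omega)
    · rintro ⟨hcl, hfix⟩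
      obtain ⟨s, hs⟩ := exists_section Xb hcl
      let p₀ : (ptVar k).obj.left := genericPoint _
      have hsF : s ≫ Fm = s := section_ext (p₀ := p₀) (by
        show sm Fm (sm s p₀) = sm s p₀
        rw [hs, hfix])
      have hsjd : s ≫ j = s ≫ d :=
        ObjectProperty.hom_ext _ (Over.OverMorphism.ext (hP.hom_ext
          (show sm ((s ≫ j) ≫ p) = sm ((s ≫ d) ≫ p) by rw [Category.assoc, Category.assoc, hjp, hdp])
          (show sm ((s ≫ j) ≫ q) = sm ((s ≫ d) ≫ q) by
            rw [Category.assoc, Category.assoc, hjq, hdq, Category.comp_id, hsF])))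
      refine ⟨w, ?_⟩
      have := congrArg (fun g : ptVar k ⟶ Pb ↦ sm g p₀) hsjd
      simp only [sm_comp_apply, hs] at this
      exact this
  haveI : IsLocallyNoetherian Xb.obj.left := LocallyOfFiniteType.isLocallyNoetherian Xb.obj.hom
  haveI : IsNoetherian Xb.obj.left := ⟨⟩
  have hfin : S.Finite := finite_of_forall_isClosed (isClosed_closure.preimage (sm d).continuous)
    fun w hw ↦ ((hmem w).mp hw).1
  have hcomp : ∀ w, IsCompPt S w ↔ w ∈ S := fun w ↦ ⟨fun h ↦ h.1, fun h ↦ ⟨h, fun w' hw' hsp ↦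
    (((hmem w').mp hw').1.stableUnderSpecialization hsp rfl : w = w').symm⟩⟩
  have hm : ∀ (w : Xb.obj.left) (hw : IsCompPt S w), preimMult (sm d) (sm j η) w hw.1 = 1 :=
    fun w hw ↦ preimMult_eq_one pc hE H hFm sjp sjq sdp sdq η w hw.1 ((hmem w).mp hw.1).2
  have hpull := T.cl_pull d (sm j η) (fun w hw ↦ by
    rw [(pdim_eq_zero_iff Xb.obj.hom w).mpr ((hmem w).mp hw.1).1,
      BMCoh.pdim_eq_of_isClosedEmbedding (sm j) (sm j).isClosedEmbedding η, pdim_genericPoint]
    have := tr_prod_dim T hP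
    omega) (Or.inr hm)
  haveI : Fintype {w // IsCompPt S w} :=
    Set.Finite.fintype (s := {w | IsCompPt S w}) (hfin.subset fun w hw ↦ hw.1)
  rw [finsum_eq_sum_of_fintype] at hpull
  refine ⟨hfin.subset fun w hw ↦ (hmem w).mpr hw, ?_⟩
  rw [← tr_graph_mul_diag T Fm p q hP j d hjp hjq hdp hdq,
    mul_comm_of_even T (even_two_mul _) (T.cl_mem Pb _), tr_cl_graph T d p hdp]
  rw [show T.pull d (T.cl Pb (sm j η)) = _ from hpull, map_sum]
  rw [Finset.sum_congr rfl (g := fun _ ↦ (1 : K)) fun w _ ↦ by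
    rw [hm w.1 w.2, Nat.cast_one, one_smul, tr_cl_closedPoint T Xb ((hmem w.1).mp w.2.1).1]]
  rw [Finset.sum_const, nsmul_one, Finset.card_univ, ← Nat.card_eq_fintype_card]
  exact congrArg Nat.cast (Nat.card_congr (Equiv.subtypeEquivRight fun w ↦ (hcomp w).trans (hmem w)))

end Theory

end Groth.Agent.WeilLib
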