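import Groth.Agent.WeilLib.FixedPoints
import Groth.Agent.WeilLib.ZetaSeries
import Groth.Prelude.Def_W4c1zetahwZeta
import Mathlib.FieldTheory.Finite.Basic
import Mathlib.FieldTheory.PrimitiveElement

/-!
# Counting the fixed points, and the cohomological zeta function
-/

universe u v

set_option backward.isDefEq.respectTransparency false
set_option linter.style.haveILetI false
set_option linter.unusedSectionVars false

open CategoryTheory CategoryTheory.Limits AlgebraicGeometry FrobSch WeilCoh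

namespace Groth.Agent.WeilLib

section Finite

variable {k₀ : Type u} [Field k₀] {X : Scheme.{u}} (f : X ⟶ Spec (CommRingCat.of k₀))

theorem kStr_base_bijective (z : Spec (CommRingCat.of k₀)) :
    Function.Bijective (kStr (𝟙 (Spec (CommRingCat.of k₀))) z) := by
  refine ⟨(kStr (k := k₀) (𝟙 (Spec (CommRingCat.of k₀))) z).injective, fun a ↦ ?_⟩
  have hW := isAffineOpen_top (Spec (CommRingCat.of k₀))
  have hev : ∀ b : Γ(Spec (CommRingCat.of k₀), ⊤),
      (Spec (CommRingCat.of k₀)).evaluation ⊤ z trivial b ∈ (kStr (𝟙 _) z).fieldRange := by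
    intro b
    obtain ⟨r, rfl⟩ := (Scheme.ΓSpecIso (CommRingCat.of k₀)).commRingCatIsoToRingEquiv.symm.surjective b
    refine ⟨r, ?_⟩
    show (Spec (CommRingCat.of k₀)).evaluation ⊤ z trivial (secStr (𝟙 _) ⊤ r) = _
    simp [secStr, Scheme.Hom.appLE]
    rfl
  obtain ⟨a, rfl⟩ := IsLocalRing.residue_surjective a
  let := (Spec (CommRingCat.of k₀)).presheaf.algebra_section_stalk (⟨z, trivial⟩ : (⊤ : (Spec (CommRingCat.of k₀)).Opens))
  have := hW.isLocalization_stalk (⟨z, trivial⟩ : (⊤ : (Spec (CommRingCat.of k₀)).Opens))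
  obtain ⟨⟨b, d⟩, hbd⟩ := IsLocalization.surj (hW.primeIdealOf (⟨z, trivial⟩ : (⊤ : (Spec (CommRingCat.of k₀)).Opens))).asIdeal.primeCompl a
  have hu : IsUnit (algebraMap Γ(Spec (CommRingCat.of k₀), ⊤)
      ((Spec (CommRingCat.of k₀)).presheaf.stalk z) d) := IsLocalization.map_units _ d
  have h1 : HMul.hMul (α := (Spec (CommRingCat.of k₀)).residueField z) (IsLocalRing.residue _ a)
      ((Spec (CommRingCat.of k₀)).evaluation ⊤ z trivial (d : Γ(Spec (CommRingCat.of k₀), ⊤))) =
      (Spec (CommRingCat.of k₀)).evaluation ⊤ z trivial b :=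
    (map_mul (IsLocalRing.residue _) _ _).symm.trans (congrArg (IsLocalRing.residue _) hbd)
  have h2 : (IsLocalRing.residue _ a : (Spec (CommRingCat.of k₀)).residueField z) ∈
      (kStr (𝟙 _) z).fieldRange := by
    have hd : (Spec (CommRingCat.of k₀)).evaluation ⊤ z trivial (d : Γ(Spec (CommRingCat.of k₀), ⊤)) ≠ 0 :=
      (hu.map (IsLocalRing.residue _)).ne_zero
    exact (eq_div_iff hd).mpr h1 ▸ div_mem (hev _) (hev _)
  exact h2

theorem residueDegree_eq_finrank (x : X) :
    EGA4loc.residueDegree f x =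
      (letI := (kStr f x).toAlgebra; Module.finrank k₀ (X.residueField x)) := by
  letI := (kStr f x).toAlgebra
  letI := (f.residueFieldMap x).hom.toAlgebra
  symm
  refine Algebra.finrank_eq_of_equiv_equiv
    (RingEquiv.ofBijective _ (kStr_base_bijective (f x))) (RingEquiv.refl _) ?_
  exact kStr_comp f f (𝟙 _) (Category.comp_id f) x

variable [LocallyOfFiniteType f]

theorem finite_residueField_iff (x : X) :
    (letI := (kStr f x).toAlgebra; Module.Finite k₀ (X.residueField x)) ↔ IsClosed ({x} : Set X) := by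
  letI := (kStr f x).toAlgebra
  haveI := essFiniteType_residueField f x
  have h := (exists_pdim_eq_trd f x).1
  rw [← pdim_eq_zero_iff f x]
  constructor
  · intro hfin
    haveI : Algebra.IsAlgebraic k₀ (X.residueField x) := Algebra.IsAlgebraic.of_finite _ _
    rw [show trd f x = 0 from trdeg_eq_zero] at h
    exact_mod_cast h.symm
  · intro h0
    rw [h0, Nat.cast_zero] at h
    haveI : Algebra.IsAlgebraic k₀ (X.residueField x) := trdeg_eq_zero_iff.mp h
    exact Algebra.finite_of_essFiniteType_of_isAlgebraic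

variable [Finite k₀]

/-- The points all of whose residue elements are fixed by the `q^m`-th power map. -/
theorem forall_pow_eq_iff {x : X} {m : ℕ} (hm : 0 < m) :
    (∀ z : X.residueField x, z ^ (Nat.card k₀ ^ m) = z) ↔
      IsClosed ({x} : Set X) ∧ EGA4loc.residueDegree f x ∣ m := by
  haveI := Fintype.ofFinite k₀
  letI := (kStr f x).toAlgebra
  classical
  rw [← finite_residueField_iff f x, residueDegree_eq_finrank]
  have key : ∀ [Finite (X.residueField x)],
      (∀ z : X.residueField x, z ^ (Nat.card k₀ ^ m) = z) ↔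
        Module.finrank k₀ (X.residueField x) ∣ m := by
    intro hfin
    rw [← FiniteField.orderOf_frobeniusAlgHom, orderOf_dvd_iff_pow_eq_one, Nat.card_eq_fintype_card]
    have hco : ∀ n z, (FiniteField.frobeniusAlgHom k₀ (X.residueField x) ^ n) z =
        z ^ Fintype.card k₀ ^ n := by
      intro n
      induction n with
      | zero => simp
      | succ n ih =>
        intro z
        rw [pow_succ, AlgHom.mul_apply, ih, FiniteField.frobeniusAlgHom_apply, ← pow_mul, ← pow_succ']
    constructor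
    · exact fun h ↦ AlgHom.ext fun z ↦ (hco m z).trans (h z)
    · exact fun h z ↦ (hco m z).symm.trans (by rw [h]; rfl)
  constructor
  · intro h
    have hq : 1 < Nat.card k₀ ^ m := Nat.one_lt_pow hm.ne' Finite.one_lt_card
    have hne : (Polynomial.X ^ (Nat.card k₀ ^ m) - Polynomial.X : Polynomial (X.residueField x)) ≠ 0 := by
      exact FiniteField.X_pow_card_sub_X_ne_zero (X.residueField x) hq
    haveI : Finite (X.residueField x) := by
      refine Set.finite_univ_iff.mp (((Polynomial.X ^ (Nat.card k₀ ^ m) - Polynomial.X :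
        Polynomial (X.residueField x)).roots.toFinset.finite_toSet).subset fun z _ ↦ ?_)
      rw [SetLike.mem_coe, Multiset.mem_toFinset, Polynomial.mem_roots hne]
      simp only [Polynomial.IsRoot, Polynomial.eval_sub, Polynomial.eval_pow, Polynomial.eval_X]
      rw [h z, sub_self]
    exact ⟨Module.Finite.of_finite, key.mp h⟩
  · rintro ⟨hfin, hd⟩
    haveI : Finite (X.residueField x) := Module.finite_of_finite k₀
    exact key.mpr hd

end Finite

variable {k₀ : Type u} [Field k₀] [Finite k₀] {k : Type u} [Field k] [IsAlgClosed k] [Algebra k₀ k]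
  {X : Scheme.{u}} (f : X ⟶ Spec (CommRingCat.of k₀)) [LocallyOfFiniteType f]

/-- The fixed closed points of `Frob^m` on the base change, counted by degrees on `X`. -/
theorem card_fixed_eq_nPts (Xb : Var k) (π : Xb.obj.left ⟶ X)
    (hπ : IsPullback π Xb.obj.hom f (Spec.map (CommRingCat.ofHom (algebraMap k₀ k))))
    (pc e : ℕ) [Fact pc.Prime] [IsCharP (Spec (CommRingCat.of k)) pc] [IsCharP X pc] [ExpChar k pc]
    (hq : Nat.card k₀ = pc ^ e)
    (m : ℕ) (hm : 0 < m) (Fm : Xb ⟶ Xb) (hFm : sm Fm ≫ π = π ≫ frobPow pc X (e * m))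
    (hfin : {w : Xb.obj.left | IsClosed ({w} : Set Xb.obj.left) ∧ sm Fm w = w}.Finite) :
    Nat.card {w : Xb.obj.left // IsClosed ({w} : Set Xb.obj.left) ∧ sm Fm w = w} = Zeta.nPts f m := by
  classical
  let E := e * m
  haveI : IsCharP (ptVar k).obj.left pc := inferInstanceAs (IsCharP (Spec (CommRingCat.of k)) pc)
  let p₀ : (ptVar k).obj.left := genericPoint _
  let alg := Spec.map (CommRingCat.ofHom (algebraMap k₀ k))
  let A := {a : Spec (CommRingCat.of k) ⟶ X //
    a ≫ f = alg ∧ frobPow pc (Spec (CommRingCat.of k)) E ≫ a = a}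
  have hsec : ∀ w : {w : Xb.obj.left // IsClosed ({w} : Set Xb.obj.left) ∧ sm Fm w = w},
      ∃ s : ptVar k ⟶ Xb, sm s p₀ = w.1 ∧ s ≫ Fm = s := by
    rintro ⟨w, hcl, hfix⟩
    obtain ⟨s, hs⟩ := exists_section Xb hcl
    exact ⟨s, hs p₀, section_ext (p₀ := p₀) (by show sm Fm (sm s p₀) = sm s p₀; rw [hs, hfix])⟩
  choose sec hsec₁ hsec₂ using hsec
  let Φ : {w : Xb.obj.left // IsClosed ({w} : Set Xb.obj.left) ∧ sm Fm w = w} → A := fun w ↦
    ⟨sm (sec w) ≫ π, by
      rw [Category.assoc, hπ.w, ← Category.assoc, sm_w (sec w)]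
      exact Category.id_comp _, by
      conv_rhs => rw [← hsec₂ w, show sm (sec w ≫ Fm) = sm (sec w) ≫ sm Fm from rfl, Category.assoc,
        hFm, ← Category.assoc]
      exact frobPow_comp pc (sm (sec w) ≫ π) E⟩
  have hΦi : Function.Injective Φ := by
    intro w w' h
    refine Subtype.ext ?_
    rw [← hsec₁ w, ← hsec₁ w']
    have h1 : sm (sec w) = sm (sec w') :=
      hπ.hom_ext (congrArg Subtype.val h) ((sm_w (sec w)).trans (sm_w (sec w')).symm)
    rw [h1]
  have hΦs : Function.Surjective Φ := by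
    rintro ⟨a, ha, hfix⟩
    let s : ptVar k ⟶ Xb := ObjectProperty.homMk
      (Over.homMk (hπ.lift a (𝟙 _) (ha.trans (Category.id_comp _).symm)) (hπ.lift_snd _ _ _))
    have hsπ : sm s ≫ π = a := hπ.lift_fst _ _ _
    have hsF : s ≫ Fm = s := ObjectProperty.hom_ext _ (Over.OverMorphism.ext (hπ.hom_ext (by
        show (sm s ≫ sm Fm) ≫ π = sm s ≫ π
        rw [Category.assoc, hFm, ← Category.assoc, hsπ, ← frobPow_comp pc a]
        exact hfix)
      ((sm_w (s ≫ Fm)).trans (sm_w s).symm)))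
    refine ⟨⟨sm s p₀, isClosed_image_section s p₀, congrArg (fun g : ptVar k ⟶ Xb ↦ sm g p₀) hsF⟩, ?_⟩
    refine Subtype.ext ?_
    show sm (sec _) ≫ π = a
    rw [section_ext (p₀ := p₀) (hsec₁ ⟨sm s p₀, isClosed_image_section s p₀,
      congrArg (fun g : ptVar k ⟶ Xb ↦ sm g p₀) hsF⟩), hsπ]
  haveI : Finite A := by
    haveI : Finite {w : Xb.obj.left // IsClosed ({w} : Set Xb.obj.left) ∧ sm Fm w = w} :=
      hfin.to_subtype
    exact Finite.of_surjective Φ hΦs
  rw [Nat.card_congr (Equiv.ofBijective Φ ⟨hΦi, hΦs⟩)]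
  let B := {x : X // ∀ z : X.residueField x, z ^ (Nat.card k₀ ^ m) = z}
  letI alg' : ∀ x : X, Algebra k₀ (X.residueField x) := fun x ↦ (kStr f x).toAlgebra
  have hE : Nat.card k₀ ^ m = pc ^ E := by rw [hq, ← pow_mul]
  have hfrob : ∀ (x : X) (φ : X.residueField x ⟶ CommRingCat.of k),
      (frobPow pc (Spec (CommRingCat.of k)) E ≫ (Spec.map φ ≫ X.fromSpecResidueField x) =
        Spec.map φ ≫ X.fromSpecResidueField x) ↔ ∀ z : X.residueField x, z ^ (Nat.card k₀ ^ m) = z := by
    intro x φ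
    rw [frobPow_Spec pc k E, ← Category.assoc, ← Spec.map_comp, cancel_mono, Spec.map_inj]
    constructor
    · intro h z
      apply φ.hom.injective
      rw [map_pow, hE, ← iterateFrobenius_def]
      exact congr($h z)
    · intro h
      ext z
      show iterateFrobenius k pc E (φ z) = φ z
      rw [iterateFrobenius_def, ← hE, ← map_pow, h]
  have hover : ∀ (x : X) (φ : X.residueField x ⟶ CommRingCat.of k),
      ((Spec.map φ ≫ X.fromSpecResidueField x) ≫ f = alg) ↔
        φ.hom.comp (kStr f x) = algebraMap k₀ k := by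
    intro x φ
    rw [Category.assoc, fromSpecResidueField_comp, ← Spec.map_comp, Spec.map_inj]
    exact ⟨fun h ↦ congrArg CommRingCat.Hom.hom h, fun h ↦ CommRingCat.hom_ext h⟩
  let Ψ : (Σ b : B, (X.residueField b.1 →ₐ[k₀] k)) → A := fun y ↦
    ⟨(Scheme.SpecToEquivOfField k X).symm ⟨y.1.1, CommRingCat.ofHom y.2.toRingHom⟩,
      (hover y.1.1 _).mpr (RingHom.ext fun c ↦ y.2.commutes c), (hfrob y.1.1 _).mpr y.1.2⟩
  have hΨ : Function.Bijective Ψ := by
    constructor
    · rintro ⟨⟨x, hx⟩, φ⟩ ⟨⟨x', hx'⟩, φ'⟩ h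
      have h1 := (Scheme.SpecToEquivOfField k X).symm.injective (congrArg Subtype.val h)
      obtain ⟨h2, h3⟩ := Sigma.mk.inj h1
      dsimp only at h2
      subst h2
      obtain rfl : φ = φ' := AlgHom.coe_ringHom_injective
        (congrArg CommRingCat.Hom.hom (eq_of_heq h3))
      rfl
    · rintro ⟨a, ha, hfix⟩
      obtain ⟨⟨x, φ⟩, rfl⟩ := (Scheme.SpecToEquivOfField k X).symm.surjective a
      exact ⟨⟨⟨x, (hfrob x φ).mp hfix⟩,
        { φ.hom with commutes' := RingHom.congr_fun ((hover x φ).mp ha) }⟩, rfl⟩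
  rw [← Nat.card_congr (Equiv.ofBijective Ψ hΨ)]
  haveI : Finite (Σ b : B, (X.residueField b.1 →ₐ[k₀] k)) := Finite.of_injective Ψ hΨ.1
  have hdeg : ∀ b : B, Module.Finite k₀ (X.residueField b.1) := fun b ↦
    (finite_residueField_iff f b.1).mpr ((forall_pow_eq_iff f hm).mp b.2).1
  have hcard : ∀ b : B, Nat.card (X.residueField b.1 →ₐ[k₀] k) = EGA4loc.residueDegree f b.1 := by
    intro b
    haveI := hdeg b
    rw [Nat.card_eq_fintype_card, AlgHom.card, residueDegree_eq_finrank]
  have hpos : ∀ b : B, 0 < EGA4loc.residueDegree f b.1 := fun b ↦ by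
    haveI := hdeg b
    rw [residueDegree_eq_finrank]
    exact Module.finrank_pos
  haveI : Finite B := Finite.of_surjective (fun y : Σ b : B, (X.residueField b.1 →ₐ[k₀] k) ↦ y.1)
    fun b ↦ by
      have := hpos b
      rw [← hcard b] at this
      exact ⟨⟨b, (Nat.card_pos_iff.mp this).1.some⟩, rfl⟩
  haveI := Fintype.ofFinite B
  rw [Nat.card_sigma, Finset.sum_congr rfl fun b _ ↦ hcard b,
    ← Finset.sum_fiberwise_of_maps_to (g := fun b : B ↦ EGA4loc.residueDegree f b.1) (t := m.divisors)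
      (fun b _ ↦ Nat.mem_divisors.mpr ⟨((forall_pow_eq_iff f hm).mp b.2).2, hm.ne'⟩)]
  refine Finset.sum_congr rfl fun d hd ↦ ?_
  rw [Finset.sum_congr rfl (g := fun _ ↦ d) fun b hb ↦ (Finset.mem_filter.mp hb).2,
    Finset.sum_const, smul_eq_mul, mul_comm]
  congr 1
  rw [← Fintype.card_subtype, ← Nat.card_eq_fintype_card]
  exact Nat.card_congr
    { toFun := fun b ↦ ⟨b.1.1, ((forall_pow_eq_iff f hm).mp b.1.2).1, b.2⟩
      invFun := fun x ↦ ⟨⟨x.1, (forall_pow_eq_iff f hm).mpr
        ⟨x.2.1, x.2.2.symm ▸ (Nat.mem_divisors.mp hd).1⟩⟩, x.2.2⟩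
      left_inv := fun _ ↦ rfl
      right_inv := fun _ ↦ rfl }

end Groth.Agent.WeilLib
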