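import Groth.Agent.WeilLib.Geom
import Groth.Prelude.Def_ChowOps
import Mathlib.AlgebraicGeometry.Morphisms.Proper

/-!
# Classes of cycles and push-forward
-/

universe u v

set_option backward.isDefEq.respectTransparency false

set_option linter.style.haveILetI false
set_option linter.unusedSectionVars false

open CategoryTheory CategoryTheory.Limits AlgebraicGeometry WeilCoh

namespace Groth.Agent.WeilLib

variable {k : Type u} [Field k]

instance isProper_obj (X : Var k) : IsProper X.obj.hom := by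
  obtain ⟨n, i, hi, hw⟩ := X.property.2.1
  have : IsProper (CohB1.ProjSpace.toSpec n (ULift.{u} ℤ)) := ProjMor.isProper_toSpec n _
  have : IsProper (CohB1.ProjSpaceOver.toBase n (Spec (CommRingCat.of k))) := by
    unfold CohB1.ProjSpaceOver.toBase
    exact MorphismProperty.pullback_snd _ _ this
  rw [← hw]
  infer_instance

instance compactSpace_obj (X : Var k) : CompactSpace ↥X.obj.left :=
  QuasiCompact.compactSpace_of_compactSpace X.obj.hom

theorem finite_support {X : Var k} (α : AlgebraicCycle X.obj.left ℤ) :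
    (Function.support ⇑α).Finite := by
  have := α.locallyFiniteSupport.finite_inter_support_of_isCompact
    (isCompact_univ (X := ↥X.obj.left))
  simpa using this

variable [IsAlgClosed k] {K : Type v} [Field K] [CharZero K] (T : Theory k K)

theorem clCyc_eq_sum {X : Var k} (α : AlgebraicCycle X.obj.left ℤ) (s : Finset X.obj.left)
    (hs : ∀ x, α x ≠ 0 → x ∈ s) :
    T.clCyc X α = ∑ x ∈ s, ((α x : ℤ) : K) • T.cl X x := by
  refine finsum_eq_sum_of_support_subset _ fun x hx ↦ hs x fun h ↦ hx ?_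
  show ((α x : ℤ) : K) • T.cl X x = 0
  rw [h, Int.cast_zero, zero_smul]

theorem tr_clCyc_map {X Y : Var k} (f : X ⟶ Y) [QuasiCompact (sm f)]
    (δX : ↥X.obj.left → ℤ) (hδX : Cyc.DeltaCompat X.obj.hom δX (fun _ => 0))
    (δY : ↥Y.obj.left → ℤ) (hδY : Cyc.DeltaCompat Y.obj.hom δY (fun _ => 0))
    (α : AlgebraicCycle X.obj.left ℤ) (b : T.H Y) :
    T.tr Y (T.clCyc Y (AlgebraicCycle.map (sm f) δX δY α) * b) =
      T.tr X (T.clCyc X α * T.pull f b) := by
  classical
  let s := (finite_support α).toFinset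
  have hs : ∀ x, α x ≠ 0 → x ∈ s := fun x hx ↦ (finite_support α).mem_toFinset.mpr hx
  have hw : ∀ x, AlgebraicCycle.mapCoeff (sm f) δX δY x = (sm f).residueDegree x := by
    intro x
    unfold AlgebraicCycle.mapCoeff
    split_ifs with h
    · rfl
    · by_contra hne
      refine h ?_
      rw [eq_pdim_of_deltaCompat X.obj.hom δX hδX, eq_pdim_of_deltaCompat Y.obj.hom δY hδY]
      exact congrArg Nat.cast (pdim_eq_of_residueDegree_ne_zero X.obj.hom (sm f) Y.obj.hom (sm_w f)
        (fun h0 ↦ hne h0.symm)).symm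
  have hmap : ∀ y, AlgebraicCycle.map (sm f) δX δY α y =
      ∑ x ∈ s.filter (fun x ↦ sm f x = y), α x * ((sm f).residueDegree x : ℤ) := by
    intro y
    rw [AlgebraicCycle.map, Function.locallyFinsupp.map_apply]
    simp only [hw]
    refine finsum_mem_eq_sum_of_inter_support_eq _ ?_
    ext x
    simp only [Set.mem_inter_iff, Set.mem_preimage, Set.mem_singleton_iff, Function.mem_support,
      Finset.coe_filter, Set.mem_setOf_eq]
    exact ⟨fun h ↦ ⟨⟨hs x fun h0 ↦ h.2 (by rw [h0, zero_mul]), h.1⟩, h.2⟩,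
      fun h ↦ ⟨h.1.2, h.2⟩⟩
  rw [clCyc_eq_sum T (AlgebraicCycle.map (sm f) δX δY α) (s.image (sm f)) fun y hy ↦ ?_,
    clCyc_eq_sum T α s hs, Finset.sum_mul, map_sum, Finset.sum_mul, map_sum]
  · simp only [smul_mul_assoc, map_smul, smul_eq_mul, tr_cl_mul_pull]
    rw [← Finset.sum_fiberwise_of_maps_to (g := sm f) (fun x hx ↦ Finset.mem_image_of_mem _ hx)
      (fun x ↦ ((α x : ℤ) : K) * (((sm f).residueDegree x : K) * T.tr Y (T.cl Y (sm f x) * b)))]
    refine Finset.sum_congr rfl fun y _ ↦ ?_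
    rw [hmap, Int.cast_sum, Finset.sum_mul]
    refine Finset.sum_congr rfl fun x hx ↦ ?_
    rw [(Finset.mem_filter.mp hx).2, Int.cast_mul, Int.cast_natCast, mul_assoc]
  · rw [hmap] at hy
    obtain ⟨x, hx, -⟩ := Finset.exists_ne_zero_of_sum_ne_zero hy
    exact Finset.mem_image.mpr ⟨x, (Finset.mem_filter.mp hx).1, (Finset.mem_filter.mp hx).2⟩

theorem residueDegree_eq_one_of_closed {X : Var k} {x : X.obj.left}
    (hx : IsClosed ({x} : Set X.obj.left)) : X.obj.hom.residueDegree x = 1 := by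
  obtain ⟨-, hsur⟩ := kStr_bijective X.obj.hom hx
  have h := kStr_comp X.obj.hom X.obj.hom (𝟙 _) (Category.comp_id _) x
  have hs : Function.Surjective (X.obj.hom.residueFieldMap x) := fun a ↦ by
    obtain ⟨c, hc⟩ := hsur a
    exact ⟨kStr (𝟙 _) (X.obj.hom x) c, (RingHom.congr_fun h c).trans hc⟩
  letI := (X.obj.hom.residueFieldMap x).hom.toAlgebra
  exact Module.finrank_eq_of_rank_eq (n := 1) (by
    rw [← (LinearEquiv.ofBijective (Algebra.linearMap
        ((Spec (CommRingCat.of k)).residueField (X.obj.hom x)) (X.obj.left.residueField x))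
      ⟨(algebraMap ((Spec (CommRingCat.of k)).residueField (X.obj.hom x))
        (X.obj.left.residueField x)).injective, hs⟩).rank_eq]
    simp)

theorem deg_eq_tr_clCyc {X : Var k} [QuasiCompact X.obj.hom] (δ : ↥X.obj.left → ℤ)
    (hδ : Cyc.DeltaCompat X.obj.hom δ (fun _ => 0)) (α : AlgebraicCycle X.obj.left ℤ)
    (hα : α ∈ Cyc.Zk X.obj.left δ 0) :
    (ChowOps.deg X.obj.hom δ α : K) = T.tr X (T.clCyc X α) := by
  classical
  let s := (finite_support α).toFinset
  have hs : ∀ x, α x ≠ 0 → x ∈ s := fun x hx ↦ (finite_support α).mem_toFinset.mpr hx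
  have h0 : ∀ x ∈ s, δ x = 0 := fun x hx ↦
    not_not.mp fun hne ↦ (finite_support α).mem_toFinset.mp hx (hα x hne)
  have hcl : ∀ x ∈ s, IsClosed ({x} : Set X.obj.left) := fun x hx ↦ by
    refine (pdim_eq_zero_iff X.obj.hom x).mp ?_
    have := eq_pdim_of_deltaCompat X.obj.hom δ hδ x
    rw [h0 x hx] at this
    exact_mod_cast this.symm
  have hmap : ChowOps.deg X.obj.hom δ α = ∑ x ∈ s, α x := by
    unfold ChowOps.deg
    refine (Function.locallyFinsupp.map_apply _ _ _ _).trans ?_
    have hfib : X.obj.hom ⁻¹' {IsLocalRing.closedPoint k} = Set.univ :=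
      Set.eq_univ_of_forall fun x ↦
        @Subsingleton.elim _ (inferInstanceAs (Subsingleton (PrimeSpectrum k))) _ _
    rw [hfib, finsum_mem_univ, finsum_eq_sum_of_support_subset (s := s) _ ?_]
    · refine Finset.sum_congr rfl fun x hx ↦ ?_
      rw [AlgebraicCycle.mapCoeff, if_pos (h0 x hx), residueDegree_eq_one_of_closed (hcl x hx)]
      simp
    · exact fun x hx ↦ hs x fun h ↦ hx (by simp [h])
  rw [hmap, clCyc_eq_sum T α s hs, map_sum, Int.cast_sum]
  refine Finset.sum_congr rfl fun x hx ↦ ?_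
  rw [map_smul, tr_cl_closedPoint T X (hcl x hx), smul_eq_mul, mul_one]

end Groth.Agent.WeilLib
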