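import Groth.Agent.WeilLib.Geom
import Mathlib.LinearAlgebra.Trace
import Mathlib.LinearAlgebra.Dual.Basis

/-!
# Classes of graphs in Künneth bases and the trace formula
-/

universe u v w

set_option linter.unusedSectionVars false

open CategoryTheory AlgebraicGeometry WeilCoh

namespace Groth.Agent.WeilLib

variable {k : Type u} [Field k] [IsAlgClosed k] {K : Type v} [Field K] [CharZero K] (T : Theory k K)

/-- The class of the graph, paired with any class. -/
theorem tr_cl_graph {X Q : Var k} (j : X ⟶ Q) (p : Q ⟶ X) (h : j ≫ p = 𝟙 X) (z : T.H Q) :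
    T.tr Q (T.cl Q (sm j (genericPoint ↥X.obj.left)) * z) = T.tr X (T.pull j z) := by
  rw [tr_cl_section T j p h, cl_genericPoint, one_mul]

theorem sum_coeff {X : Var k} (r : ℕ) {ι : Type} [Fintype ι] [DecidableEq ι]
    (e : Module.Basis ι K ↥(T.gr X (r : ℤ))) (f : ι → ↥(T.gr X (2 * dZ X - r)))
    (hef : ∀ i l : ι, T.tr X ((f l : T.H X) * (e i : T.H X)) = if i = l then 1 else 0)
    {b : T.H X} (hb : b ∈ T.gr X (r : ℤ)) :
    ∑ i, T.tr X ((f i : T.H X) * b) • (e i : T.H X) = b := by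
  have h : ∀ i, T.tr X ((f i : T.H X) * b) = e.repr ⟨b, hb⟩ i := by
    intro i
    let φ : T.gr X (r : ℤ) →ₗ[K] K :=
      T.tr X ∘ₗ LinearMap.mulLeft K (f i : T.H X) ∘ₗ (T.gr X (r : ℤ)).subtype
    have hφ : φ = e.coord i := e.ext fun l ↦ by
      show T.tr X ((f i : T.H X) * (e l : T.H X)) = e.repr (e l) i
      rw [hef, e.repr_self, Finsupp.single_apply]
    exact LinearMap.congr_fun hφ ⟨b, hb⟩
  simp only [h]
  conv_rhs => rw [show b = ((⟨b, hb⟩ : T.gr X (r : ℤ)) : T.H X) from rfl, ← e.sum_repr ⟨b, hb⟩]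
  push_cast
  rfl

/-- The class of a graph in Künneth bases. -/
theorem cl_graph {X Q : Var k} (φ : X ⟶ X) (p q : Q ⟶ X) (hQ : IsProd p q) (j : X ⟶ Q)
    (hjp : j ≫ p = 𝟙 X) (hjq : j ≫ q = φ)
    (ι : ℕ → Type) [∀ r, Fintype (ι r)] [∀ r, DecidableEq (ι r)]
    (e : (r : ℕ) → Module.Basis (ι r) K ↥(T.gr X (r : ℤ)))
    (f : (r : ℕ) → ι r → ↥(T.gr X (2 * dZ X - r)))
    (hef : ∀ r, r ≤ 2 * dim X.obj.left → ∀ i l : ι r,
      T.tr X ((f r l : T.H X) * (e r i : T.H X)) = if i = l then 1 else 0) :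
    T.cl Q (sm j (genericPoint ↥X.obj.left)) =
      ∑ r ∈ Finset.range (2 * dim X.obj.left + 1), ∑ i : ι r,
        T.pull p (T.pull φ (e r i : T.H X)) * T.pull q (f r i : T.H X) := by
  refine eq_of_tr_mul_prod T hQ fun s t a ha b hb ↦ ?_
  rw [tr_cl_graph T j p hjp, map_mul, pull_pull_eq_self T hjp, pull_pull T j q, hjq]
  have hterm : ∀ r, ∀ i : ι r, T.tr Q
      (T.pull p (T.pull φ (e r i : T.H X)) * T.pull q (f r i : T.H X) * (T.pull p a * T.pull q b)) =
      sgn K ((2 * dZ X - r) * s) * (T.tr X (T.pull φ (e r i : T.H X) * a) *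
        T.tr X ((f r i : T.H X) * b)) := by
    intro r i
    rw [mul_assoc, ← mul_assoc (T.pull q _),
      mul_comm_gr T (T.pull_mem q _ _ (f r i).2) (T.pull_mem p _ _ ha), smul_mul_assoc,
      mul_smul_comm, map_smul, smul_eq_mul, mul_assoc (T.pull p a), ← map_mul (T.pull q),
      ← mul_assoc, ← map_mul (T.pull p), tr_prod_all T hQ]
  simp only [Finset.sum_mul, map_sum, hterm]
  by_cases hst : s + t = 2 * dZ X
  · rcases lt_or_ge t 0 with ht | ht
    · rw [eq_zero_of_out_of_range T hb (Or.inl ht)]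
      simp
    by_cases htop : 2 * dZ X < t
    · rw [eq_zero_of_out_of_range T hb (Or.inr htop)]
      simp
    lift t to ℕ using ht
    rw [Finset.sum_eq_single_of_mem t (Finset.mem_range.mpr (by omega)) fun r _ hr ↦
      Finset.sum_eq_zero fun i _ ↦ by
        rw [tr_mul_eq_zero T (f r i).2 hb (by omega), mul_zero, mul_zero]]
    have hb' := congrArg (T.pull φ) (sum_coeff T t (e t) (f t) (hef t (by omega)) hb)
    rw [map_sum] at hb'
    simp only [map_smul] at hb'
    have hsum : ∑ i : ι t, T.tr X (T.pull φ (e t i : T.H X) * a) * T.tr X ((f t i : T.H X) * b) =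
        T.tr X (T.pull φ b * a) := by
      rw [← hb', Finset.sum_mul, map_sum]
      refine Finset.sum_congr rfl fun i _ ↦ ?_
      rw [smul_mul_assoc, map_smul, smul_eq_mul, mul_comm]
    rw [← Finset.mul_sum, hsum, show (2 * dZ X - t) = s by omega,
      tr_mul_comm T ha (T.pull φ b)]
    congr 1
    refine (sgn_eq_of_even ?_).symm
    rcases Int.even_or_odd s with he | ho
    · exact (he.mul_right s).sub he
    · exact (ho.mul ho).sub_odd ho
  · rw [tr_mul_eq_zero T ha (T.pull_mem φ t b hb) hst]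
    refine (Finset.sum_eq_zero fun r _ ↦ Finset.sum_eq_zero fun i _ ↦ ?_).symm
    by_cases hr : (r : ℤ) = t
    · rw [tr_mul_eq_zero T (T.pull_mem φ _ _ (e r i).2) ha (by omega), zero_mul, mul_zero]
    · rw [tr_mul_eq_zero T (f r i).2 hb (by omega), mul_zero, mul_zero]

/-- A basis dual to a given one, with its trace property. -/
theorem exists_dualBasis {X : Var k} {i j : ℤ} (h : j + i = 2 * dZ X) {ι : Type} [Fintype ι]
    [DecidableEq ι] (e : Module.Basis ι K ↥(T.gr X i)) :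
    ∃ f : Module.Basis ι K ↥(T.gr X j),
      (∀ a b, T.tr X ((f a : T.H X) * (e b : T.H X)) = if b = a then 1 else 0) ∧
      ∀ (y : T.gr X j) a, f.repr y a = T.tr X ((y : T.H X) * (e a : T.H X)) := by
  have := T.duality X j i h
  let L := (pairing K (T.gr X j) (T.gr X i) (T.tr X)).toPerfPair
  refine ⟨e.dualBasis.map L.symm, fun a b ↦ ?_, fun y a ↦ ?_⟩
  · have h1 : L (e.dualBasis.map L.symm a) (e b) = e.dualBasis a (e b) := by
      rw [Module.Basis.map_apply, LinearEquiv.apply_symm_apply]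
    refine h1.trans ?_
    rw [Module.Basis.dualBasis_apply_self]
  · rw [Module.Basis.map_repr, LinearEquiv.trans_apply, LinearEquiv.symm_symm,
      Module.Basis.dualBasis_repr]
    rfl

/-- The Lefschetz trace formula. -/
theorem tr_graph_mul_diag {X Q : Var k} (φ : X ⟶ X) (p q : Q ⟶ X) (hQ : IsProd p q) (j d : X ⟶ Q)
    (hjp : j ≫ p = 𝟙 X) (hjq : j ≫ q = φ) (hdp : d ≫ p = 𝟙 X) (hdq : d ≫ q = 𝟙 X) :
    T.tr Q (T.cl Q (sm j (genericPoint ↥X.obj.left)) * T.cl Q (sm d (genericPoint ↥X.obj.left))) =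
      ∑ i ∈ Finset.range (2 * dim X.obj.left + 1),
        (-1 : K) ^ i * LinearMap.trace K ↥(T.gr X (i : ℤ)) (T.pullDeg φ (i : ℤ)) := by
  classical
  let ι : ℕ → Type := fun r ↦ Fin (Module.finrank K (T.gr X (r : ℤ)))
  let e : (r : ℕ) → Module.Basis (ι r) K ↥(T.gr X (r : ℤ)) :=
    fun r ↦ Module.finBasis K (T.gr X (r : ℤ))
  have hex := fun r : ℕ ↦
    exists_dualBasis T (show (2 * dZ X - r) + r = 2 * dZ X by ring) (e r)
  choose f hf hrepr using hex
  rw [tr_cl_graph T j p hjp, cl_graph T (𝟙 X) p q hQ d hdp hdq ι e (fun r ↦ f r) fun r _ i l ↦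
    hf r l i, map_sum, map_sum]
  have htr : ∀ r ∈ Finset.range (2 * dim X.obj.left + 1),
      T.tr X (T.pull j (∑ i : ι r, T.pull p (T.pull (𝟙 X) (e r i : T.H X)) *
        T.pull q (f r i : T.H X))) =
      (-1 : K) ^ r * LinearMap.trace K ↥(T.gr X (2 * dZ X - r)) (T.pullDeg φ (2 * dZ X - r)) := by
    intro r _
    rw [LinearMap.trace_eq_matrix_trace K (f r), Matrix.trace, map_sum, map_sum, Finset.mul_sum]
    refine Finset.sum_congr rfl fun i _ ↦ ?_
    rw [Matrix.diag_apply, LinearMap.toMatrix_apply, hrepr, pullDeg_coe, pull_id_apply, map_mul,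
      pull_pull_eq_self T hjp, pull_pull T j q, hjq, tr_mul_comm T (e r i).2, sgn_natCast]
  rw [Finset.sum_congr rfl htr, ← Finset.sum_range_reflect]
  refine Finset.sum_congr rfl fun i hi ↦ ?_
  rw [Finset.mem_range] at hi
  have h1 : 2 * dim X.obj.left + 1 - 1 - i = 2 * dim X.obj.left - i := by omega
  rw [h1]
  have h2 : 2 * dZ X - ((2 * dim X.obj.left - i : ℕ) : ℤ) = i := by omega
  rw [h2]
  congr 1
  rw [← sgn_natCast, ← sgn_natCast]
  exact sgn_eq_of_even ⟨(dim X.obj.left : ℤ) - i, by omega⟩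

end Groth.Agent.WeilLib
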