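import Groth.Agent.WeilLib.Adjoint

/-!
# The functional equation
-/

universe u v

set_option linter.unusedSectionVars false
set_option linter.style.haveILetI false

open CategoryTheory AlgebraicGeometry WeilCoh Polynomial

namespace Groth.Agent.WeilLib

theorem prod_range_odd_split {M : Type*} [CommMonoid M] (h : ℕ → M) (n : ℕ) :
    ∏ i ∈ Finset.range (2 * n + 1), h i =
      (∏ i ∈ Finset.range (n + 1), h (2 * i)) * ∏ i ∈ Finset.range n, h (2 * i + 1) := by
  induction n with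
  | zero => simp
  | succ n ih =>
    rw [show 2 * (n + 1) + 1 = 2 * n + 1 + 1 + 1 by ring, Finset.prod_range_succ,
      Finset.prod_range_succ, ih, Finset.prod_range_succ _ (n + 1),
      Finset.prod_range_succ (fun i ↦ h (2 * i + 1)) n, show 2 * n + 1 + 1 = 2 * (n + 1) by ring]
    ac_rfl

theorem prod_zpow_eq {G : Type*} [CommGroupWithZero G] {ι : Type*} (s : Finset ι) {a : G}
    (ha : a ≠ 0) (e : ι → ℤ) : ∏ i ∈ s, a ^ e i = a ^ ∑ i ∈ s, e i := by
  classical
  induction s using Finset.induction with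
  | empty => simp
  | insert x s hx ih => rw [Finset.prod_insert hx, Finset.sum_insert hx, ih, zpow_add₀ ha]

variable {k : Type u} [Field k] [IsAlgClosed k] {K : Type v} [Field K] [CharZero K] (T : Theory k K)

theorem finrank_compl (X : Var k) {i j : ℤ} (h : j + i = 2 * dZ X) :
    Module.finrank K (T.gr X j) = Module.finrank K (T.gr X i) := by
  have := T.duality X j i h
  rw [(pairing K (T.gr X j) (T.gr X i) (T.tr X)).toPerfPair.finrank_eq, Subspace.dual_finrank_eq]

/-- In odd middle degree the pairing is alternating. -/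
theorem even_finrank_middle (X : Var k) (hn : Odd (dim X.obj.left)) :
    Even (Module.finrank K (T.gr X (dZ X))) := by
  classical
  let b := Module.finBasis K (T.gr X (dZ X))
  obtain ⟨f, hf, hrepr⟩ := exists_dualBasis T (show dZ X + dZ X = 2 * dZ X by ring) b
  let G : Matrix (Fin (Module.finrank K (T.gr X (dZ X)))) (Fin (Module.finrank K (T.gr X (dZ X)))) K :=
    f.toMatrix b
  have hG : G.transpose = -G := by
    ext r a
    show f.repr (b r) a = -(f.repr (b a) r)
    rw [hrepr, hrepr, tr_mul_comm T (b r).2, sgn_natCast, hn.neg_one_pow]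
    ring
  have hdet : G.det ≠ 0 := by
    haveI := f.invertibleToMatrix b
    exact (Matrix.isUnit_det_of_invertible G).ne_zero
  have h := congrArg Matrix.det hG
  rw [Matrix.det_transpose, Matrix.det_neg, Fintype.card_fin] at h
  have h1 : (-1 : K) ^ Module.finrank K (T.gr X (dZ X)) = 1 := by
    refine mul_right_cancel₀ hdet ?_
    rw [one_mul]
    exact h.symm
  rcases Nat.even_or_odd (Module.finrank K (T.gr X (dZ X))) with he | ho
  · exact he
  · rw [ho.neg_one_pow] at h1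
    norm_num at h1

theorem even_dim_mul_euler (X : Var k) :
    Even ((dim X.obj.left : ℤ) * ∑ i ∈ Finset.range (2 * dim X.obj.left + 1),
      (-1 : ℤ) ^ i * (Module.finrank K ↥(T.gr X (i : ℤ)) : ℤ)) := by
  rcases Nat.even_or_odd (dim X.obj.left) with he | ho
  · exact (Int.even_coe_nat _ |>.mpr he).mul_right _
  refine Even.mul_left ?_ _
  generalize hn : dim X.obj.left = n
  let g : ℕ → ℤ := fun i ↦ (-1 : ℤ) ^ i * (Module.finrank K ↥(T.gr X (i : ℤ)) : ℤ)
  have hg : ∀ i ≤ 2 * n, g (2 * n - i) = g i := by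
    intro i hi
    show (-1 : ℤ) ^ (2 * n - i) * _ = _
    rw [← neg_one_pow_congr (R := ℤ) (m := i) (n := 2 * n - i),
      finrank_compl T X (j := ((2 * n - i : ℕ) : ℤ)) (i := (i : ℤ)) (by omega)]
    constructor <;> · rintro ⟨c, hc⟩; exact ⟨n - c, by omega⟩
  show Even (∑ i ∈ Finset.range (2 * n + 1), g i)
  have h2 : ∑ i ∈ Finset.range n, g (n + 1 + i) = ∑ i ∈ Finset.range n, g i := by
    rw [← Finset.sum_range_reflect g n]
    refine Finset.sum_congr rfl fun i hi ↦ ?_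
    rw [Finset.mem_range] at hi
    rw [← hg (n + 1 + i) (by omega)]
    congr 1
    omega
  rw [show 2 * n + 1 = (n + 1) + n by ring, Finset.sum_range_add, Finset.sum_range_succ, h2]
  have hmid : Even (g n) := by
    refine Even.mul_left ((Int.even_coe_nat _).mpr ?_) _
    subst hn
    exact even_finrank_middle T X ho
  have : ∑ i ∈ Finset.range n, g i + g n + ∑ i ∈ Finset.range n, g i =
      2 * ∑ i ∈ Finset.range n, g i + g n := by ring
  rw [this]
  exact (even_two_mul _).add hmid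

variable {X : Var k} (F : X ⟶ X) {Q : K} (hQ : Q ≠ 0)
  (hF : ∀ a, T.tr X (T.pull F a) = Q ^ dim X.obj.left * T.tr X a)

include hQ hF in
theorem functional_equation :
    ∃ ε : K, (ε = 1 ∨ ε = -1) ∧
      Polynomial.aeval ((RatFunc.X : RatFunc K)⁻¹ * RatFunc.C (Q ^ dim X.obj.left)⁻¹)
          (∏ i ∈ Finset.range (dim X.obj.left),
            (LinearMap.charpoly (T.pullDeg F ((2 * i + 1 : ℕ) : ℤ))).reverse) /
        Polynomial.aeval ((RatFunc.X : RatFunc K)⁻¹ * RatFunc.C (Q ^ dim X.obj.left)⁻¹)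
          (∏ i ∈ Finset.range (dim X.obj.left + 1),
            (LinearMap.charpoly (T.pullDeg F ((2 * i : ℕ) : ℤ))).reverse) =
      RatFunc.C ε * RatFunc.C Q ^ ((dim X.obj.left : ℤ) * (∑ i ∈ Finset.range (2 * dim X.obj.left + 1), (-1 : ℤ) ^ i * (Module.finrank K ↥(T.gr X (i : ℤ)) : ℤ)) / 2) *
        (RatFunc.X : RatFunc K) ^ (∑ i ∈ Finset.range (2 * dim X.obj.left + 1), (-1 : ℤ) ^ i * (Module.finrank K ↥(T.gr X (i : ℤ)) : ℤ)) *
        (algebraMap (Polynomial K) (RatFunc K)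
          (∏ i ∈ Finset.range (dim X.obj.left),
            (LinearMap.charpoly (T.pullDeg F ((2 * i + 1 : ℕ) : ℤ))).reverse) /
         algebraMap (Polynomial K) (RatFunc K)
          (∏ i ∈ Finset.range (dim X.obj.left + 1),
            (LinearMap.charpoly (T.pullDeg F ((2 * i : ℕ) : ℤ))).reverse)) := by
  classical
  have hc : Q ^ dim X.obj.left ≠ 0 := pow_ne_zero _ hQ
  generalize hn : dim X.obj.left = n at *
  let P : ℕ → K[X] := fun i ↦ (LinearMap.charpoly (T.pullDeg F (i : ℤ))).reverse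
  let b : ℕ → ℕ := fun i ↦ Module.finrank K ↥(T.gr X (i : ℤ))
  let D : ℕ → K := fun i ↦ LinearMap.det (T.pullDeg F (i : ℤ))
  let t : RatFunc K := RatFunc.X
  let u : RatFunc K := t⁻¹ * RatFunc.C (Q ^ n)⁻¹
  let s : ℕ → ℤ := fun i ↦ -(-1 : ℤ) ^ i
  set E := ∑ i ∈ Finset.range (2 * n + 1), (-1 : ℤ) ^ i * (b i : ℤ) with hE
  have ht : t ≠ 0 := RatFunc.X_ne_zero
  have hA : ∀ i, algebraMap K[X] (RatFunc K) (P i) = aeval t (P i) := fun i ↦
    (RatFunc.aeval_X_left_eq_algebraMap _).symm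
  have hDD : ∀ i ≤ 2 * n, D (2 * n - i) * D i = (Q ^ n) ^ b i := fun i hi ↦
    det_mul_det T F hF (by omega)
  have hD : ∀ i ≤ 2 * n, D i ≠ 0 := fun i hi h ↦ pow_ne_zero (b i) hc (by rw [← hDD i hi, h, mul_zero])
  have hg : ∀ i ≤ 2 * n, aeval u (P (2 * n - i)) =
      RatFunc.C ((-1) ^ b i / D i) * (t⁻¹) ^ b i * aeval t (P i) := by
    intro i hi
    have h1 := congrArg (aeval u) (det_smul_reverse T F hF
      (show ((2 * n - i : ℕ) : ℤ) + (i : ℤ) = 2 * dZ X by omega))
    have h1u : RatFunc.C (Q ^ n) * u = t⁻¹ := by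
      show RatFunc.C (Q ^ n) * (t⁻¹ * RatFunc.C (Q ^ n)⁻¹) = t⁻¹
      rw [mul_left_comm, ← map_mul, mul_inv_cancel₀ hc, map_one, mul_one]
    rw [map_smul, Algebra.smul_def, RatFunc.algebraMap_eq_C, map_mul, map_pow, map_neg, map_one,
      aeval_comp, map_mul, aeval_C, aeval_X, RatFunc.algebraMap_eq_C, h1u] at h1
    have h2 : aeval t (P i) * (t⁻¹) ^ b i = aeval t⁻¹ (LinearMap.charpoly (T.pullDeg F (i : ℤ))) := by
      haveI : Invertible t⁻¹ := invertibleOfNonzero (inv_ne_zero ht)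
      have h3 := Polynomial.eval₂_reverse_mul_pow (algebraMap K (RatFunc K)) t⁻¹
        (LinearMap.charpoly (T.pullDeg F (i : ℤ)))
      rw [invOf_eq_inv, inv_inv, LinearMap.charpoly_natDegree] at h3
      exact h3
    have hD' : RatFunc.C (D i) ≠ 0 := (_root_.map_ne_zero _).mpr (hD i hi)
    apply mul_left_cancel₀ hD'
    refine h1.trans ?_
    rw [← h2, map_div₀, map_pow, map_neg, map_one]
    field_simp
    exact mul_comm _ _
  have hsplit : ∀ h : ℕ → RatFunc K, (∏ i ∈ Finset.range n, h (2 * i + 1)) /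
      (∏ i ∈ Finset.range (n + 1), h (2 * i)) = ∏ i ∈ Finset.range (2 * n + 1), h i ^ s i := by
    intro h
    rw [prod_range_odd_split, div_eq_mul_inv, mul_comm, ← Finset.prod_inv_distrib]
    congr 1 <;> refine Finset.prod_congr rfl fun i _ ↦ ?_
    · simp [s, pow_mul]
    · simp [s, pow_succ, pow_mul]
  let κ : K := ∏ i ∈ Finset.range (2 * n + 1), ((-1) ^ b i / D i) ^ s i
  have hκ : κ * κ = (Q ^ n) ^ E := by
    show (∏ i ∈ _, _) * (∏ i ∈ _, _) = _
    conv_lhs => arg 2; rw [← Finset.prod_range_reflect]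
    rw [← Finset.prod_mul_distrib, hE, ← prod_zpow_eq _ hc]
    refine Finset.prod_congr rfl fun i hi ↦ ?_
    rw [Finset.mem_range] at hi
    have hb : b (2 * n + 1 - 1 - i) = b i :=
      finrank_compl T X (show ((2 * n + 1 - 1 - i : ℕ) : ℤ) + (i : ℤ) = 2 * dZ X by omega)
    have hs : s (2 * n + 1 - 1 - i) = s i := by
      show -(-1 : ℤ) ^ _ = -(-1 : ℤ) ^ _
      rw [neg_one_pow_congr (R := ℤ) (m := 2 * n + 1 - 1 - i) (n := i)]
      constructor <;> · rintro ⟨c, hc⟩; exact ⟨n - c, by omega⟩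
    have hDD' : D i * D (2 * n + 1 - 1 - i) = (Q ^ n) ^ b i := by
      rw [mul_comm, show 2 * n + 1 - 1 - i = 2 * n - i by omega]
      exact hDD i (by omega)
    rw [hb, hs, ← mul_zpow, div_mul_div_comm, hDD', ← pow_add, (Even.add_self (b i)).neg_one_pow,
      one_div, inv_zpow, ← zpow_neg, ← zpow_natCast, ← zpow_mul]
    congr 1
    show (b i : ℤ) * -(-(-1 : ℤ) ^ i) = _
    ring
  have hev := even_dim_mul_euler T X
  rw [hn] at hev
  obtain ⟨m, hm⟩ : Even ((n : ℤ) * E) := hev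
  have hm2 : (n : ℤ) * E / 2 = m := by omega
  have hsq : κ * κ = Q ^ m * Q ^ m := by
    rw [hκ, ← zpow_natCast, ← zpow_mul, hm, zpow_add₀ hQ]
  obtain ⟨ε, hε, hκε⟩ : ∃ ε : K, (ε = 1 ∨ ε = -1) ∧ κ = ε * Q ^ m := by
    rcases mul_self_eq_mul_self_iff.mp hsq with h | h
    · exact ⟨1, Or.inl rfl, by rw [h, one_mul]⟩
    · exact ⟨-1, Or.inr rfl, by rw [h, neg_one_mul]⟩
  refine ⟨ε, hε, ?_⟩
  show aeval u (∏ i ∈ _, P (2 * i + 1)) / aeval u (∏ i ∈ _, P (2 * i)) =
    RatFunc.C ε * RatFunc.C Q ^ ((n : ℤ) * E / 2) * t ^ E *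
      (algebraMap K[X] (RatFunc K) (∏ i ∈ _, P (2 * i + 1)) /
        algebraMap K[X] (RatFunc K) (∏ i ∈ _, P (2 * i)))
  rw [hm2, ← map_zpow₀, ← map_mul, ← hκε]
  simp only [map_prod, hA]
  rw [hsplit (fun i ↦ aeval u (P i)), hsplit (fun i ↦ aeval t (P i)), ← Finset.prod_range_reflect]
  rw [show RatFunc.C κ = ∏ i ∈ Finset.range (2 * n + 1), RatFunc.C ((-1) ^ b i / D i) ^ s i by
      simp only [κ, map_prod, map_zpow₀],
    hE, ← prod_zpow_eq _ ht, ← Finset.prod_mul_distrib, ← Finset.prod_mul_distrib]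
  refine Finset.prod_congr rfl fun i hi ↦ ?_
  rw [Finset.mem_range] at hi
  have hs : s (2 * n + 1 - 1 - i) = s i := by
    show -(-1 : ℤ) ^ _ = -(-1 : ℤ) ^ _
    rw [neg_one_pow_congr (R := ℤ) (m := 2 * n + 1 - 1 - i) (n := i)]
    constructor <;> · rintro ⟨c, hc⟩; exact ⟨n - c, by omega⟩
  rw [hs, show 2 * n + 1 - 1 - i = 2 * n - i by omega, hg i (by omega), mul_zpow, mul_zpow]
  congr 2
  rw [← zpow_natCast, ← zpow_mul, inv_zpow, ← zpow_neg]
  congr 1
  show -((b i : ℤ) * -(-1 : ℤ) ^ i) = _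
  ring

end Groth.Agent.WeilLib
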