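import Groth.Agent.WeilLib.Count
import Groth.Agent.WeilLib.FunctEq

/-!
# The cohomological expression of the zeta function
-/

universe u v

set_option backward.isDefEq.respectTransparency false
set_option linter.style.haveILetI false
set_option linter.unusedSectionVars false

open CategoryTheory CategoryTheory.Limits AlgebraicGeometry FrobSch WeilCoh

namespace Groth.Agent.WeilLib

theorem sum_range_odd_split {M : Type*} [AddCommMonoid M] (h : ℕ → M) (n : ℕ) :
    ∑ i ∈ Finset.range (2 * n + 1), h i =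
      (∑ i ∈ Finset.range (n + 1), h (2 * i)) + ∑ i ∈ Finset.range n, h (2 * i + 1) := by
  induction n with
  | zero => simp
  | succ n ih =>
    rw [show 2 * (n + 1) + 1 = 2 * n + 1 + 1 + 1 by ring, Finset.sum_range_succ,
      Finset.sum_range_succ, ih, Finset.sum_range_succ _ (n + 1),
      Finset.sum_range_succ (fun i ↦ h (2 * i + 1)) n, show 2 * n + 1 + 1 = 2 * (n + 1) by ring]
    ac_rfl

theorem logD_reverse_charpoly {K : Type*} [Field K] {V : Type*} [AddCommGroup V] [Module K V]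
    [FiniteDimensional K V] (φ : V →ₗ[K] V) :
    LogD ((φ.charpoly.reverse : Polynomial K) : PowerSeries K)
        (-PowerSeries.mk fun m ↦ LinearMap.trace K V (φ ^ (m + 1))) ∧
      PowerSeries.constantCoeff ((φ.charpoly.reverse : Polynomial K) : PowerSeries K) = 1 := by
  classical
  let b := Module.finBasis K V
  rw [← LinearMap.charpoly_toMatrix φ b, Matrix.reverse_charpoly]
  refine ⟨?_, ?_⟩
  · have h : ∀ m, LinearMap.trace K V (φ ^ m) = ((LinearMap.toMatrix b b φ) ^ m).trace := by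
      intro m
      rw [LinearMap.trace_eq_matrix_trace K b, LinearMap.toMatrix_pow]
    simp only [h]
    exact derivative_charpolyRev _
  · rw [← PowerSeries.coeff_zero_eq_constantCoeff_apply, Polynomial.coeff_coe,
      Polynomial.coeff_zero_eq_eval_zero]
    exact Matrix.eval_charpolyRev

variable {k₀ : Type u} [Field k₀] [Finite k₀] {k : Type u} [Field k] [IsAlgClosed k] [Algebra k₀ k]
  {K : Type v} [Field K] [CharZero K] (T : Theory k K)

theorem zeta_eq {X : Scheme.{u}} (f : X ⟶ Spec (CommRingCat.of k₀)) [LocallyOfFiniteType f]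
    (FX : X ⟶ X) (hFb : FX.base = 𝟙 _) (hle : ∀ U : X.Opens, U ≤ FX ⁻¹ᵁ U)
    (hFapp : ∀ (U : X.Opens) (s : Γ(X, U)), (FX.appLE U U (hle U)).hom s = s ^ Nat.card k₀)
    (Xb : Var k) (π : Xb.obj.left ⟶ X)
    (hπ : IsPullback π Xb.obj.hom f (Spec.map (CommRingCat.ofHom (algebraMap k₀ k))))
    (F : Xb ⟶ Xb) (hF : sm F ≫ π = π ≫ FX)
    (Pb : Var k) (p q : Pb ⟶ Xb) (hP : IsProd p q) :
    PowerSeries.map (algebraMap ℚ K) (Zeta.zetaFun f) *
        (∏ i ∈ Finset.range (dim Xb.obj.left + 1),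
          ((LinearMap.charpoly (T.pullDeg F ((2 * i : ℕ) : ℤ))).reverse : PowerSeries K)) =
      ∏ i ∈ Finset.range (dim Xb.obj.left),
        ((LinearMap.charpoly (T.pullDeg F ((2 * i + 1 : ℕ) : ℤ))).reverse : PowerSeries K) := by
  classical
  obtain ⟨pc, e, hpc, hk, hX, G, he, hcard, -, hFeq⟩ :=
    exists_iso_frob hπ FX hFb hle hFapp (sm F) hF (sm_w F)
  haveI : CharP k₀ pc := (algebraMap k₀ k).charP (algebraMap k₀ k).injective pc
  haveI : IsCharP X pc := IsCharP.of_hom f pc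
  have hFX : FX = frobPow pc X e := eq_frobPow pc e FX hFb hle fun U s ↦ by rw [hFapp, hcard]
  have hpullm : ∀ (m : ℕ) (i : ℤ), T.pullDeg (iter F m) i = (T.pullDeg F i) ^ m := by
    intro m i
    induction m with
    | zero =>
      ext a
      exact pull_id_apply T (a : T.H Xb)
    | succ m ih =>
      rw [pow_succ, ← ih]
      ext a
      exact (pull_pull T (iter F m) F (a : T.H Xb)).symm
  have hN : ∀ m, 0 < m → (Zeta.nPts f m : K) = ∑ i ∈ Finset.range (2 * dim Xb.obj.left + 1),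
      (-1 : K) ^ i * LinearMap.trace K ↥(T.gr Xb (i : ℤ)) ((T.pullDeg F (i : ℤ)) ^ m) := by
    intro m hm
    obtain ⟨H, hH⟩ := iter_frobPow pc e G.symm m
    have hFm : sm (iter F m) = frobPow pc Xb.obj.left (e * m) ≫ H.hom := by
      rw [sm_iter, hFeq]; exact hH
    have hE : 2 ≤ pc ^ (e * m) :=
      le_trans hpc.out.two_le (Nat.le_self_pow (Nat.mul_ne_zero he.ne' hm.ne') pc)
    obtain ⟨hfin, hsum⟩ := sum_trace_eq_card T p q hP (iter F m) pc hE H hFm
    simp only [hpullm] at hsum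
    rw [hsum]
    congr 1
    refine (card_fixed_eq_nPts f Xb π hπ pc e hcard m hm (iter F m) ?_ hfin).symm
    rw [sm_iter, iter_comm (sm F) FX π hF m, hFX, iter_frobPow_self]
  obtain ⟨hZ, hZ0⟩ := logD_exp_subst (K := K) (fun m ↦ (Zeta.nPts f m : ℚ)) (by simp [Zeta.nPts])
  have hev := LogD.prod (Finset.range (dim Xb.obj.left + 1)) fun i _ ↦
    (logD_reverse_charpoly (T.pullDeg F ((2 * i : ℕ) : ℤ))).1
  have hod := LogD.prod (Finset.range (dim Xb.obj.left)) fun i _ ↦
    (logD_reverse_charpoly (T.pullDeg F ((2 * i + 1 : ℕ) : ℤ))).1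
  have heq : (PowerSeries.mk fun m ↦ (((Zeta.nPts f (m + 1) : ℕ) : ℚ) : K)) +
      ∑ i ∈ Finset.range (dim Xb.obj.left + 1), -PowerSeries.mk (fun m ↦
        LinearMap.trace K _ ((T.pullDeg F ((2 * i : ℕ) : ℤ)) ^ (m + 1))) =
      ∑ i ∈ Finset.range (dim Xb.obj.left), -PowerSeries.mk (fun m ↦
        LinearMap.trace K _ ((T.pullDeg F ((2 * i + 1 : ℕ) : ℤ)) ^ (m + 1))) := by
    ext m
    simp only [map_add, map_sum, map_neg, PowerSeries.coeff_mk, Finset.sum_neg_distrib, Rat.cast_natCast]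
    rw [hN (m + 1) m.succ_pos, sum_range_odd_split]
    simp only [(even_two_mul _).neg_one_pow, (odd_two_mul_add_one _).neg_one_pow, one_mul, neg_one_mul,
      Finset.sum_neg_distrib]
    abel
  refine LogD.unique (hZ.mul hev) (heq ▸ hod) ?_
  rw [map_mul, map_prod, map_prod]
  rw [show PowerSeries.constantCoeff (PowerSeries.map (algebraMap ℚ K) (Zeta.zetaFun f)) = 1 from hZ0,
    one_mul, Finset.prod_eq_one fun i _ ↦ (logD_reverse_charpoly (T.pullDeg F ((2 * i : ℕ) : ℤ))).2,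
    Finset.prod_eq_one fun i _ ↦ (logD_reverse_charpoly (T.pullDeg F ((2 * i + 1 : ℕ) : ℤ))).2]

theorem zeta_rational {X : Scheme.{u}} (f : X ⟶ Spec (CommRingCat.of k₀)) [LocallyOfFiniteType f]
    (FX : X ⟶ X) (hFb : FX.base = 𝟙 _) (hle : ∀ U : X.Opens, U ≤ FX ⁻¹ᵁ U)
    (hFapp : ∀ (U : X.Opens) (s : Γ(X, U)), (FX.appLE U U (hle U)).hom s = s ^ Nat.card k₀)
    (Xb : Var k) (π : Xb.obj.left ⟶ X)
    (hπ : IsPullback π Xb.obj.hom f (Spec.map (CommRingCat.ofHom (algebraMap k₀ k))))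
    (F : Xb ⟶ Xb) (hF : sm F ≫ π = π ≫ FX)
    (Pb : Var k) (p q : Pb ⟶ Xb) (hP : IsProd p q) (T : Theory k K) :
    ∃ P Q : Polynomial ℚ, Q ≠ 0 ∧
      Zeta.zetaFun f * (Q : PowerSeries ℚ) = (P : PowerSeries ℚ) := by
  have h := zeta_eq T f FX hFb hle hFapp Xb π hπ F hF Pb p q hP
  refine exists_rat_of_map (K := K) (Zeta.zetaFun f)
    (∏ i ∈ Finset.range (dim Xb.obj.left + 1),
      (LinearMap.charpoly (T.pullDeg F ((2 * i : ℕ) : ℤ))).reverse)
    (∏ i ∈ Finset.range (dim Xb.obj.left),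
      (LinearMap.charpoly (T.pullDeg F ((2 * i + 1 : ℕ) : ℤ))).reverse) ?_ ?_
  · refine Finset.prod_ne_zero_iff.mpr fun i _ h0 ↦ ?_
    have := (logD_reverse_charpoly (T.pullDeg F ((2 * i : ℕ) : ℤ))).2
    rw [h0] at this
    simp at this
  · simpa [← Polynomial.coeToPowerSeries.ringHom_apply, map_prod] using h

end Groth.Agent.WeilLib
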