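import Groth.Agent.WeilLib.Geom
import Mathlib.LinearAlgebra.Trace
import Mathlib.LinearAlgebra.Eigenspace.Zero

/-!
# Correspondences: the trace formula and the bijection with families of linear maps
-/

universe u v w

set_option linter.unusedSectionVars false
set_option linter.style.haveILetI false

open CategoryTheory AlgebraicGeometry WeilCoh TensorProduct

namespace Groth.Agent.WeilLib

variable {k : Type u} [Field k] {P : ObjectProperty (Over (Spec (CommRingCat.of k)))}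
variable {K : Type v} [Field K] (T : TheoryOn.{u, v, w} k P K)
variable {X Y Q Q' : P.FullSubcategory}

/-- The cohomology ring as the direct sum of its pieces. -/
noncomputable def sumEquiv (X : P.FullSubcategory) :
    DirectSum ℤ (fun i ↦ T.gr X i) ≃ₗ[K] T.H X :=
  LinearEquiv.ofBijective (DirectSum.coeLinearMap (T.gr X)) (T.decomp X)

theorem sumEquiv_symm_coe {i : ℤ} (a : T.gr X i) :
    (sumEquiv T X).symm (a : T.H X) = DirectSum.lof K ℤ (fun i ↦ T.gr X i) i a := by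
  rw [LinearEquiv.symm_apply_eq]
  exact (DirectSum.coeLinearMap_of (T.gr X) i a).symm

/-- The projection onto one degree. -/
noncomputable def pr (X : P.FullSubcategory) (i : ℤ) : T.H X →ₗ[K] T.gr X i :=
  DirectSum.component K ℤ (fun i ↦ T.gr X i) i ∘ₗ (sumEquiv T X).symm.toLinearMap

theorem pr_coe {i : ℤ} (a : T.gr X i) : pr T X i (a : T.H X) = a := by
  show DirectSum.component K ℤ (fun i ↦ T.gr X i) i ((sumEquiv T X).symm (a : T.H X)) = a
  rw [sumEquiv_symm_coe]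
  exact DirectSum.component.lof_self (R := K) (M := fun i ↦ T.gr X i) i a

theorem pr_coe_ne {i j : ℤ} (h : j ≠ i) (a : T.gr X j) : pr T X i (a : T.H X) = 0 := by
  show DirectSum.component K ℤ (fun i ↦ T.gr X i) i ((sumEquiv T X).symm (a : T.H X)) = 0
  rw [sumEquiv_symm_coe]
  exact DirectSum.of_eq_of_ne _ _ _ (Ne.symm h)

theorem tr_pr_mul {i s : ℤ} (h : i + s = 2 * dZ X) (v : T.H X) {a : T.H X} (ha : a ∈ T.gr X s) :
    T.tr X ((pr T X i v : T.H X) * a) = T.tr X (v * a) := by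
  have : T.tr X ∘ₗ LinearMap.mulRight K a ∘ₗ (T.gr X i).subtype ∘ₗ pr T X i =
      T.tr X ∘ₗ LinearMap.mulRight K a :=
    linearMap_ext_gr T fun j b hb ↦ by
      show T.tr X ((pr T X i b : T.H X) * a) = T.tr X (b * a)
      by_cases hj : j = i
      · subst hj
        rw [show pr T X j b = ⟨b, hb⟩ from pr_coe T ⟨b, hb⟩]
      · rw [show pr T X i b = 0 from pr_coe_ne T hj ⟨b, hb⟩, Submodule.coe_zero, zero_mul, map_zero,
          tr_mul_eq_zero T hb ha (by omega)]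
  exact LinearMap.congr_fun this v

/-- Push-forward on the whole ring. -/
noncomputable def pushAll (f : X ⟶ Y) : T.H X →ₗ[K] T.H Y :=
  DirectSum.toModule K ℤ _
      (fun i ↦ (T.gr Y (i + 2 * dZ Y - 2 * dZ X)).subtype ∘ₗ T.push f i) ∘ₗ
    (sumEquiv T X).symm.toLinearMap

theorem pushAll_coe (f : X ⟶ Y) {i : ℤ} (a : T.gr X i) :
    pushAll T f (a : T.H X) = (T.push f i a : T.H Y) := by
  show DirectSum.toModule K ℤ _ _ ((sumEquiv T X).symm (a : T.H X)) = _
  rw [sumEquiv_symm_coe, DirectSum.toModule_lof]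
  rfl

theorem tr_pushAll_mul (f : X ⟶ Y) (x : T.H X) (b : T.H Y) :
    T.tr Y (pushAll T f x * b) = T.tr X (x * T.pull f b) := by
  have : T.tr Y ∘ₗ LinearMap.mulRight K b ∘ₗ pushAll T f =
      T.tr X ∘ₗ LinearMap.mulRight K (T.pull f b) :=
    linearMap_ext_gr T fun i a ha ↦ by
      show T.tr Y (pushAll T f a * b) = T.tr X (a * T.pull f b)
      rw [show pushAll T f a = _ from pushAll_coe T f ⟨a, ha⟩]
      exact tr_push_mul T f i ⟨a, ha⟩ b
  exact LinearMap.congr_fun this x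

/-- The action of a class on a product as a correspondence. -/
noncomputable def act (p : Q ⟶ X) (q : Q ⟶ Y) : T.H Q →ₗ[K] T.H X →ₗ[K] T.H Y :=
  ((LinearMap.mul K (T.H Q)).flip.compl₂ (T.pull p).toLinearMap).compr₂ (pushAll T q)

theorem act_apply (p : Q ⟶ X) (q : Q ⟶ Y) (φ : T.H Q) (x : T.H X) :
    act T p q φ x = pushAll T q (T.pull p x * φ) := rfl

theorem act_prod {p : Q ⟶ X} {q : Q ⟶ Y} (hQ : IsProd p q) (a : T.H X) (b : T.H Y) (x : T.H X) :
    act T p q (T.pull p a * T.pull q b) x = T.tr X (x * a) • b := by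
  refine eq_of_tr_mul' T fun y ↦ ?_
  rw [act_apply, tr_pushAll_mul, ← mul_assoc, ← map_mul (T.pull p), mul_assoc,
    ← map_mul (T.pull q), tr_prod_all T hQ, smul_mul_assoc, map_smul, smul_eq_mul]

/-- The pull-back along the swap preserves the trace. -/
theorem tr_pull_swap {p : Q ⟶ X} {q : Q ⟶ Y} (hQ : IsProd p q) {p' : Q' ⟶ Y} {q' : Q' ⟶ X}
    (hQ' : IsProd p' q') {σ : Q ⟶ Q'} (h₁ : σ ≫ p' = q) (h₂ : σ ≫ q' = p) (z : T.H Q') :
    T.tr Q (T.pull σ z) = T.tr Q' z := by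
  have : T.tr Q ∘ₗ (T.pull σ).toLinearMap = T.tr Q' :=
    linearMap_ext_prod T hQ' fun i j a _ b _ ↦ by
      show T.tr Q (T.pull σ (T.pull p' a * T.pull q' b)) = T.tr Q' (T.pull p' a * T.pull q' b)
      rw [map_mul, pull_pull, pull_pull, h₁, h₂, tr_prod_all T (IsPullback.flip hQ : IsProd q p), tr_prod_all T hQ']
  exact LinearMap.congr_fun this z

/-- The trace formula for correspondences, for arbitrary classes. -/
theorem tr_mul_pull_swap {p : Q ⟶ X} {q : Q ⟶ Y} (hQ : IsProd p q) {p' : Q' ⟶ Y} {q' : Q' ⟶ X}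
    (hQ' : IsProd p' q') {σ : Q ⟶ Q'} (h₁ : σ ≫ p' = q) (h₂ : σ ≫ q' = p) (φ : T.H Q) (ψ : T.H Q') :
    T.tr Q (φ * T.pull σ ψ) =
      ∑ i ∈ Finset.range (2 * dim X.obj.left + 1), (-1 : K) ^ i *
        LinearMap.trace K ↥(T.gr X (i : ℤ))
          (pr T X i ∘ₗ act T p' q' ψ ∘ₗ act T p q φ ∘ₗ (T.gr X (i : ℤ)).subtype) := by
  classical
  let R : T.H Q →ₗ[K] K := ∑ i ∈ Finset.range (2 * dim X.obj.left + 1), (-1 : K) ^ i •
      (LinearMap.trace K ↥(T.gr X (i : ℤ)) ∘ₗ LinearMap.compRight K (pr T X i ∘ₗ act T p' q' ψ) ∘ₗ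
        LinearMap.lcomp K (T.H Y) (T.gr X (i : ℤ)).subtype ∘ₗ act T p q)
  suffices h : T.tr Q ∘ₗ LinearMap.mulRight K (T.pull σ ψ) = R by
    refine (LinearMap.congr_fun h φ).trans ?_
    simp only [R, LinearMap.coe_sum, Finset.sum_apply, LinearMap.smul_apply, smul_eq_mul]
    rfl
  refine linearMap_ext_prod T hQ fun s t a ha b hb ↦ ?_
  simp only [R, LinearMap.coe_sum, Finset.sum_apply, LinearMap.smul_apply, smul_eq_mul]
  have hterm : ∀ i : ℕ,
      LinearMap.trace K ↥(T.gr X (i : ℤ)) ((pr T X i ∘ₗ act T p' q' ψ) ∘ₗ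
        (act T p q (T.pull p a * T.pull q b)) ∘ₗ (T.gr X (i : ℤ)).subtype) =
      T.tr X ((pr T X i (act T p' q' ψ b) : T.H X) * a) := by
    intro i
    have : (pr T X i ∘ₗ act T p' q' ψ) ∘ₗ
        (act T p q (T.pull p a * T.pull q b)) ∘ₗ (T.gr X (i : ℤ)).subtype =
        (T.tr X ∘ₗ LinearMap.mulRight K a ∘ₗ (T.gr X (i : ℤ)).subtype).smulRight
          (pr T X i (act T p' q' ψ b)) := by
      ext1 x
      show pr T X i (act T p' q' ψ (act T p q (T.pull p a * T.pull q b) (x : T.H X))) =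
        T.tr X ((x : T.H X) * a) • pr T X i (act T p' q' ψ b)
      rw [act_prod T hQ, map_smul, map_smul]
    rw [this, LinearMap.trace_smulRight]
    rfl
  show T.tr Q (T.pull p a * T.pull q b * T.pull σ ψ) =
    ∑ i ∈ Finset.range (2 * dim X.obj.left + 1), (-1 : K) ^ i *
    LinearMap.trace K ↥(T.gr X (i : ℤ)) ((pr T X i ∘ₗ act T p' q' ψ) ∘ₗ
      (act T p q (T.pull p a * T.pull q b)) ∘ₗ (T.gr X (i : ℤ)).subtype)
  simp only [hterm]
  rw [← h₁, ← h₂, ← pull_pull, ← pull_pull, ← map_mul, ← map_mul, tr_pull_swap T hQ hQ' h₁ h₂,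
    mul_assoc, tr_mul_comm T (T.pull_mem q' s a ha),
    show T.tr Q' (T.pull p' b * ψ * T.pull q' a) = T.tr X (act T p' q' ψ b * a) by
      rw [act_apply, tr_pushAll_mul]]
  by_cases hs : 0 ≤ s ∧ s ≤ 2 * dZ X
  · obtain ⟨s, rfl⟩ : ∃ n : ℕ, s = (n : ℤ) := ⟨s.toNat, (Int.toNat_of_nonneg hs.1).symm⟩
    rw [Finset.sum_eq_single_of_mem (2 * dim X.obj.left - s) (Finset.mem_range.mpr (by omega))
      fun i _ hi ↦ by
        rw [tr_mul_eq_zero T (pr T X i _).2 ha (by omega), mul_zero]]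
    rw [tr_pr_mul T (by omega) _ ha]
    congr 1
    rw [← sgn_natCast]
    exact sgn_eq_of_even ⟨(s : ℤ) - dim X.obj.left, by omega⟩
  · rw [eq_zero_of_out_of_range T ha (by omega)]
    simp

end Groth.Agent.WeilLib
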