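import Groth.Prelude.Def_FSch3

/-!
# Units of completions, and the stalk ring of a formal spectrum
-/

universe u

set_option linter.style.haveILetI false

namespace Groth.Agent.WeilLib

variable {S : Type u} [CommRing S] (I : Ideal S)

theorem exists_rep (y : AdicCompletion I S) (n : ℕ) :
    ∃ a : S, AdicCompletion.evalₐ I n y = Ideal.Quotient.mk (I ^ n) a := by
  obtain ⟨c, rfl⟩ := AdicCompletion.mk_surjective I S y
  exact ⟨c n, AdicCompletion.evalₐ_mk _ _ _⟩

/-- An element of the completion that is a unit modulo `I` is a unit. -/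
theorem isUnit_of_level_one (y : AdicCompletion I S)
    (h : IsUnit (AdicCompletion.evalₐ I 1 y)) : IsUnit y := by
  obtain ⟨c, rfl⟩ := AdicCompletion.mk_surjective I S y
  rw [AdicCompletion.evalₐ_mk] at h
  obtain ⟨b, hb⟩ := h.exists_right_inv
  obtain ⟨b, rfl⟩ := Ideal.Quotient.mk_surjective b
  rw [← map_mul, ← map_one (Ideal.Quotient.mk (I ^ 1)), Ideal.Quotient.eq, pow_one] at hb
  have hstep : ∀ {m n : ℕ}, m ≤ n → (c : ℕ → S) m - (c : ℕ → S) n ∈ I ^ m := by
    intro m n hmn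
    have := c.2 hmn
    rw [SModEq.sub_mem] at this
    simpa only [smul_eq_mul, Ideal.mul_top] using this
  have hunit : ∀ n, IsUnit (Ideal.Quotient.mk (I ^ n) ((c : ℕ → S) n)) := by
    intro n
    cases n with
    | zero =>
      haveI : Subsingleton (S ⧸ I ^ 0) :=
        Ideal.Quotient.subsingleton_iff.mpr (by rw [pow_zero, Ideal.one_eq_top])
      exact isUnit_of_subsingleton _
    | succ n =>
      have h1 : (c : ℕ → S) (n + 1) * b - 1 ∈ I := by
        have h2 := hstep (show 1 ≤ n + 1 by omega)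
        rw [pow_one] at h2
        have h3 := I.sub_mem hb (I.mul_mem_right b h2)
        convert h3 using 1
        ring
      have hnil : IsNilpotent (Ideal.Quotient.mk (I ^ (n + 1)) (1 - (c : ℕ → S) (n + 1) * b)) := by
        refine ⟨n + 1, ?_⟩
        rw [← map_pow, Ideal.Quotient.eq_zero_iff_mem]
        exact Ideal.pow_mem_pow (by rw [← neg_sub]; exact I.neg_mem h1) _
      have := hnil.isUnit_one_sub
      rw [map_sub, map_one, sub_sub_cancel, map_mul] at this
      exact isUnit_of_mul_isUnit_left this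
  choose v hv using fun n ↦ (hunit n).exists_right_inv
  choose r hr using fun n ↦ Ideal.Quotient.mk_surjective (v n)
  have hr1 : ∀ n, (c : ℕ → S) n * r n - 1 ∈ I ^ n := fun n ↦ by
    rw [← Ideal.Quotient.eq, map_mul, map_one, hr, hv]
  let w : AdicCompletion.AdicCauchySequence I S := ⟨r, fun {m n} hmn ↦ by
    rw [SModEq.sub_mem, smul_eq_mul, Ideal.mul_top]
    have h1 := hr1 m
    have h2 := Ideal.pow_le_pow_right hmn (hr1 n)
    have h3 := (I ^ m).mul_mem_right (r m * r n) (hstep hmn)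
    have e : r m - r n = (((c : ℕ → S) n * r n - 1) * (-r m)) + (((c : ℕ → S) m * r m - 1) * r n) -
        (((c : ℕ → S) m - (c : ℕ → S) n) * (r m * r n)) := by ring
    rw [e]
    exact (I ^ m).sub_mem ((I ^ m).add_mem ((I ^ m).mul_mem_right _ h2)
      ((I ^ m).mul_mem_right _ h1)) h3⟩
  refine IsUnit.of_mul_eq_one (AdicCompletion.mk I S w) (AdicCompletion.ext_evalₐ fun n ↦ ?_)
  rw [map_mul, map_one, AdicCompletion.evalₐ_mk, AdicCompletion.evalₐ_mk]
  show Ideal.Quotient.mk _ ((c : ℕ → S) n) * Ideal.Quotient.mk _ (r n) = 1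
  rw [← map_mul, ← map_one (Ideal.Quotient.mk (I ^ n)), Ideal.Quotient.eq]
  exact hr1 n

variable {T U : Type u} [CommRing T] [CommRing U] (K : Ideal T) (L : Ideal U)

theorem evalₐ_complMap (g : S →+* T) (h : I.map g ≤ K) (x : AdicCompletion I S) (n : ℕ) :
    AdicCompletion.evalₐ K n (FSch.complMap I K g h x) =
      Ideal.quotientMap (K ^ n) g (FSch.pow_le_comap_pow_of_map_le I K g h n)
        (AdicCompletion.evalₐ I n x) := by
  unfold FSch.complMap
  rw [AdicCompletion.evalₐ_liftRingHom]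
  · rfl
  · intro m n hle
    refine RingHom.ext fun y ↦ ?_
    obtain ⟨c, rfl⟩ := AdicCompletion.mk_surjective I S y
    simp only [RingHom.coe_comp, Function.comp_apply, AlgHom.toRingHom_eq_coe, AlgHom.coe_toRingHom,
      AdicCompletion.evalₐ_mk, Ideal.quotientMap_mk, Ideal.Quotient.factorPow, Ideal.Quotient.factor_mk]
    rw [Ideal.Quotient.eq]
    have h1 := c.2 hle
    rw [SModEq.sub_mem] at h1
    simp only [smul_eq_mul, Ideal.mul_top] at h1
    rw [← map_sub]
    exact FSch.pow_le_comap_pow_of_map_le I K g h m (by rw [← neg_sub]; exact (I ^ m).neg_mem h1)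

theorem complMap_comp (g : S →+* T) (g' : T →+* U) (g'' : S →+* U) (hg : g'.comp g = g'')
    (h : I.map g ≤ K) (h' : K.map g' ≤ L) (h'' : I.map g'' ≤ L) (x : AdicCompletion I S) :
    FSch.complMap K L g' h' (FSch.complMap I K g h x) = FSch.complMap I L g'' h'' x := by
  subst hg
  refine AdicCompletion.ext_evalₐ fun n ↦ ?_
  obtain ⟨a, ha⟩ := exists_rep I x n
  rw [evalₐ_complMap, evalₐ_complMap, evalₐ_complMap, ha]
  rfl

variable (A : Type u) [CommRing A] (J : Ideal A) (𝔭 : Ideal A) [𝔭.IsPrime]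

theorem cAway_factor (f g : A) (hf : f ∉ 𝔭) (hfg : g ∉ 𝔭) (hdvd : f ∣ g) (y : FSch.cAway A J f) :
    ∃ ψ : Localization.Away f →+* Localization.Away g, ∃ h,
      FSch.cAwayToAtPrime A J 𝔭 g hfg (FSch.complMap _ _ ψ h y) = FSch.cAwayToAtPrime A J 𝔭 f hf y ∧
      ψ.comp (algebraMap A (Localization.Away f)) = algebraMap A (Localization.Away g) := by
  have hu : IsUnit (algebraMap A (Localization.Away g) f) :=
    isUnit_of_dvd_unit (map_dvd _ hdvd) (IsLocalization.Away.algebraMap_isUnit g)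
  let ψ := IsLocalization.Away.lift (S := Localization.Away f) f hu
  have hψ : ψ.comp (algebraMap A (Localization.Away f)) = algebraMap A (Localization.Away g) :=
    IsLocalization.Away.lift_comp f hu
  refine ⟨ψ, by rw [Ideal.map_map, hψ], complMap_comp _ _ _ _ _ _ ?_ _ _ _ _, hψ⟩
  refine IsLocalization.ringHom_ext (Submonoid.powers f) ?_
  rw [RingHom.comp_assoc, hψ]
  ext a
  simp [FSch.awayToAtPrime]

theorem exists_away_of_mem {x : FSch.cAtPrime A J 𝔭} (hx : x ∈ FSch.stalkSubring A J 𝔭) :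
    ∃ (f : A) (hf : f ∉ 𝔭) (y : FSch.cAway A J f), FSch.cAwayToAtPrime A J 𝔭 f hf y = x := by
  have : Nonempty {f : A // f ∉ 𝔭} := ⟨⟨1, Ideal.one_notMem 𝔭⟩⟩
  have hdir : Directed (· ≤ ·) fun f : {f : A // f ∉ 𝔭} ↦
      (FSch.cAwayToAtPrime A J 𝔭 f.1 f.2).range := by
    intro f g
    refine ⟨⟨f.1 * g.1, fun h ↦ (‹𝔭.IsPrime›.mem_or_mem h).elim f.2 g.2⟩, ?_, ?_⟩
    · rintro _ ⟨y, rfl⟩
      obtain ⟨ψ, h, he, -⟩ := cAway_factor A J 𝔭 f.1 (f.1 * g.1) f.2
        (fun h ↦ (‹𝔭.IsPrime›.mem_or_mem h).elim f.2 g.2) (dvd_mul_right _ _) y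
      exact ⟨_, he⟩
    · rintro _ ⟨y, rfl⟩
      obtain ⟨ψ, h, he, -⟩ := cAway_factor A J 𝔭 g.1 (f.1 * g.1) g.2
        (fun h ↦ (‹𝔭.IsPrime›.mem_or_mem h).elim f.2 g.2) (dvd_mul_left _ _) y
      exact ⟨_, he⟩
  rw [FSch.stalkSubring, Subring.mem_iSup_of_directed hdir] at hx
  obtain ⟨⟨f, hf⟩, y, hy⟩ := hx
  exact ⟨f, hf, y, hy⟩

theorem isUnit_of_isUnit_coe (hJ : J ≤ 𝔭) {x : FSch.stalkSubring A J 𝔭}
    (hx : IsUnit (x : FSch.cAtPrime A J 𝔭)) : IsUnit x := by
  obtain ⟨f, hf, y, hy⟩ := exists_away_of_mem A J 𝔭 x.2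
  obtain ⟨a, ha⟩ := exists_rep _ y 1
  obtain ⟨⟨b, ⟨_, N, rfl⟩⟩, hb⟩ := IsLocalization.surj (Submonoid.powers f) a
  have hb𝔭 : b ∉ 𝔭 := by
    intro hbm
    have h1 := hx.map (AdicCompletion.evalₐ (J.map (algebraMap A (Localization.AtPrime 𝔭))) 1)
    rw [← hy, FSch.cAwayToAtPrime, evalₐ_complMap, ha, Ideal.quotientMap_mk] at h1
    have hle : (J.map (algebraMap A (Localization.AtPrime 𝔭))) ^ 1 ≤
        IsLocalRing.maximalIdeal (Localization.AtPrime 𝔭) := by
      rw [pow_one, ← Localization.AtPrime.map_eq_maximalIdeal]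
      exact Ideal.map_mono hJ
    have hu : IsUnit (FSch.awayToAtPrime A 𝔭 f hf a) := by
      by_contra hnu
      haveI : Nontrivial (Localization.AtPrime 𝔭 ⧸ (J.map (algebraMap A (Localization.AtPrime 𝔭))) ^ 1) :=
        Ideal.Quotient.nontrivial_iff.mpr fun htop ↦
          (IsLocalRing.maximalIdeal.isMaximal _).ne_top (top_le_iff.mp (htop ▸ hle))
      obtain ⟨v, hv⟩ := h1.exists_right_inv
      obtain ⟨v, rfl⟩ := Ideal.Quotient.mk_surjective v
      rw [← map_mul, ← map_one (Ideal.Quotient.mk _), Ideal.Quotient.eq] at hv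
      have h2 := hle hv
      have h3 : FSch.awayToAtPrime A 𝔭 f hf a * v ∈ IsLocalRing.maximalIdeal (Localization.AtPrime 𝔭) :=
        Ideal.mul_mem_right _ _ ((IsLocalRing.mem_maximalIdeal _).mpr hnu)
      have h4 := sub_mem h3 h2
      rw [sub_sub_cancel] at h4
      exact (IsLocalRing.maximalIdeal.isMaximal _).ne_top ((Ideal.eq_top_iff_one _).mpr h4)
    have h5 := congrArg (FSch.awayToAtPrime A 𝔭 f hf) hb
    simp only [map_mul, FSch.awayToAtPrime, IsLocalization.Away.lift_eq] at h5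
    have h6 : IsUnit (algebraMap A (Localization.AtPrime 𝔭) b) := by
      rw [← h5]
      exact hu.mul (IsLocalization.map_units (Localization.AtPrime 𝔭)
        (⟨f ^ N, fun h ↦ hf (‹𝔭.IsPrime›.mem_of_pow_mem N h)⟩ : 𝔭.primeCompl))
    exact (IsLocalization.AtPrime.isUnit_to_map_iff (Localization.AtPrime 𝔭) 𝔭 b).mp h6 hbm
  have hg : f * b ∉ 𝔭 := fun h ↦ (‹𝔭.IsPrime›.mem_or_mem h).elim hf hb𝔭
  obtain ⟨ψ, h, he, hψ⟩ := cAway_factor A J 𝔭 f (f * b) hf hg (dvd_mul_right _ _) y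
  have hu' : IsUnit (FSch.complMap _ _ ψ h y) := by
    refine isUnit_of_level_one _ _ ?_
    rw [evalₐ_complMap, ha, Ideal.quotientMap_mk]
    refine IsUnit.map _ ?_
    have h7 := congrArg ψ hb
    rw [map_mul, ← RingHom.comp_apply, ← RingHom.comp_apply, hψ] at h7
    have h8 : IsUnit (algebraMap A (Localization.Away (f * b)) b) :=
      isUnit_of_dvd_unit (map_dvd _ (dvd_mul_left b f)) (IsLocalization.Away.algebraMap_isUnit _)
    rw [← h7] at h8
    exact isUnit_of_mul_isUnit_left h8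
  obtain ⟨z, hz⟩ := hu'.exists_right_inv
  refine IsUnit.of_mul_eq_one ⟨FSch.cAwayToAtPrime A J 𝔭 (f * b) hg z, ?_⟩ (Subtype.ext ?_)
  · exact le_iSup (fun f : {f : A // f ∉ 𝔭} ↦ (FSch.cAwayToAtPrime A J 𝔭 f.1 f.2).range) ⟨f * b, hg⟩ ⟨z, rfl⟩
  · show (x : FSch.cAtPrime A J 𝔭) * _ = 1
    rw [← hy, ← he, ← map_mul, hz, map_one]

theorem isLocalRing_cAtPrime (hJ : J ≤ 𝔭) : IsLocalRing (FSch.cAtPrime A J 𝔭) := by
  let I := J.map (algebraMap A (Localization.AtPrime 𝔭))
  have hI : I ^ 1 ≠ ⊤ := by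
    rw [pow_one]
    intro h
    have : I ≤ IsLocalRing.maximalIdeal (Localization.AtPrime 𝔭) := by
      rw [← Localization.AtPrime.map_eq_maximalIdeal]
      exact Ideal.map_mono hJ
    exact (IsLocalRing.maximalIdeal.isMaximal _).ne_top (top_le_iff.mp (h ▸ this))
  haveI : Nontrivial (Localization.AtPrime 𝔭 ⧸ I ^ 1) := Ideal.Quotient.nontrivial_iff.mpr hI
  haveI : IsLocalRing (Localization.AtPrime 𝔭 ⧸ I ^ 1) :=
    .of_surjective' (Ideal.Quotient.mk (I ^ 1)) Ideal.Quotient.mk_surjective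
  haveI : Nontrivial (FSch.cAtPrime A J 𝔭) := (AdicCompletion.evalₐ I 1).toRingHom.domain_nontrivial
  refine IsLocalRing.of_isUnit_or_isUnit_one_sub_self fun a ↦ ?_
  have h := congrArg (AdicCompletion.evalₐ I 1) (add_sub_cancel a 1)
  rw [map_add, map_one] at h
  rcases IsLocalRing.isUnit_or_isUnit_of_add_one h with h' | h'
  · exact Or.inl (isUnit_of_level_one _ _ h')
  · exact Or.inr (isUnit_of_level_one _ _ h')

end Groth.Agent.WeilLib
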