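import Groth.Agent.WeilLib.Lefschetz
import Mathlib.LinearAlgebra.Charpoly.Basic

/-!
# Algebraic Künneth projectors from coprime characteristic polynomials
-/

universe u v

set_option linter.unusedSectionVars false

open CategoryTheory CategoryTheory.Limits AlgebraicGeometry WeilCoh

namespace Groth.Agent.WeilLib

variable {k : Type u} [Field k] [IsAlgClosed k] {K : Type v} [Field K] [CharZero K] (T : Theory k K)

theorem pdim_section {X P : Var k} (p : P ⟶ X) (j : X ⟶ P) (h : j ≫ p = 𝟙 X) :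
    pdim P.obj.left (sm j (genericPoint ↥X.obj.left)) = dim X.obj.left := by
  rw [← pdim_genericPoint]
  exact pdim_eq_of_residueDegree_ne_zero X.obj.hom (sm j) P.obj.hom (sm_w j) (by
    rw [residueDegree_eq_one_of_comp_eq_id (sm j) (sm p)
      (show sm (j ≫ p) = sm (𝟙 X) by rw [h])]
    exact one_ne_zero)

theorem exists_projector {X P : Var k} (p q : P ⟶ X) (hP : IsProd p q) (F : X ⟶ X)
    (hF : ∀ i j : ℤ, i ≠ j → IsCoprime (T.pullDeg F i).charpoly (T.pullDeg F j).charpoly)
    (i : ℤ) :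
    ∃ u : ↥(T.gr P (2 * (dim X.obj.left : ℤ))),
      (u : T.H P) ∈ Submodule.span K (Set.range (T.cl P)) ∧
        ∀ (j : ℤ) (b : ↥(T.gr X j)),
          (T.push q (j + 2 * (dim X.obj.left : ℤ))
              ⟨T.pull p (b : T.H X) * (u : T.H P),
                SetLike.mul_mem_graded (T.pull_mem p j b b.2) u.2⟩ : T.H X) =
            if j = i then (b : T.H X) else 0 := by
  classical
  let S := (Finset.Icc (0 : ℤ) (2 * dZ X)).erase i
  obtain ⟨a, r, har⟩ : IsCoprime (T.pullDeg F i).charpoly (∏ j ∈ S, (T.pullDeg F j).charpoly) :=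
    IsCoprime.prod_right fun j hj ↦ hF i j (Finset.ne_of_mem_erase hj).symm
  let R := r * ∏ j ∈ S, (T.pullDeg F j).charpoly
  have hRi : Polynomial.aeval (T.pullDeg F i) R = 1 := by
    have h := congrArg (Polynomial.aeval (T.pullDeg F i)) har
    rwa [map_add, map_mul, LinearMap.aeval_self_charpoly, mul_zero, zero_add, map_one] at h
  have hRj : ∀ j, j ≠ i → ∀ b : T.gr X j, Polynomial.aeval (T.pullDeg F j) R b = 0 := by
    intro j hj b
    by_cases hr : 0 ≤ j ∧ j ≤ 2 * dZ X
    · have hjS : j ∈ S := Finset.mem_erase.mpr ⟨hj, Finset.mem_Icc.mpr hr⟩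
      obtain ⟨c, hc⟩ := Finset.dvd_prod_of_mem (fun j ↦ (T.pullDeg F j).charpoly) hjS
      have h0 : Polynomial.aeval (T.pullDeg F j) R = 0 := by
        show Polynomial.aeval _ (r * _) = 0
        rw [hc, map_mul, map_mul, LinearMap.aeval_self_charpoly, zero_mul, mul_zero]
      rw [h0]; rfl
    · have hb : b = 0 := Subtype.ext (eq_zero_of_out_of_range T b.2 (by omega))
      rw [hb, map_zero]
  let Fp : ℕ → (X ⟶ X) := fun m ↦ Nat.rec (motive := fun _ ↦ (X ⟶ X)) (𝟙 X) (fun _ g ↦ g ≫ F) m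
  let g : ℕ → (X ⟶ P) := fun m ↦ ObjectProperty.homMk (Over.homMk
    (IsPullback.lift hP (sm (Fp m)) (𝟙 _) (by rw [Category.id_comp]; exact sm_w (Fp m)))
    (by rw [← sm_w q, ← Category.assoc, IsPullback.lift_snd hP, Category.id_comp]))
  have hgp : ∀ m, g m ≫ p = Fp m := fun m ↦
    ObjectProperty.hom_ext _ (Over.OverMorphism.ext (IsPullback.lift_fst hP _ _ _))
  have hgq : ∀ m, g m ≫ q = 𝟙 X := fun m ↦
    ObjectProperty.hom_ext _ (Over.OverMorphism.ext (IsPullback.lift_snd hP _ _ _))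
  have hpow : ∀ m (j : ℤ) (b : T.gr X j),
      (((T.pullDeg F j) ^ m) b : T.H X) = T.pull (Fp m) (b : T.H X) := by
    intro m j
    induction m with
    | zero => exact fun b ↦ (pull_id_apply T (b : T.H X)).symm
    | succ m ih =>
      intro b
      rw [pow_succ, Module.End.mul_apply, ih, pullDeg_coe, pull_pull]
  have hmem : ∀ m, T.cl P (sm (g m) (genericPoint ↥X.obj.left)) ∈ T.gr P (2 * dZ X) := by
    intro m
    have h1 := pdim_section q (g m) (hgq m)
    have h2 := codim_add_pdim P (sm (g m) (genericPoint ↥X.obj.left))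
    have h3 := tr_prod_dim T hP
    have h4 : (codim P.obj.left (sm (g m) (genericPoint ↥X.obj.left)) : ℤ) = dZ X := by omega
    exact h4 ▸ T.cl_mem P _
  refine ⟨⟨∑ m ∈ R.support, R.coeff m • T.cl P (sm (g m) (genericPoint ↥X.obj.left)),
    Submodule.sum_mem _ fun m _ ↦ Submodule.smul_mem _ _ (hmem m)⟩,
    Submodule.sum_mem _ fun m _ ↦ Submodule.smul_mem _ _ (Submodule.subset_span ⟨_, rfl⟩), fun j b ↦ ?_⟩
  have hval : (if j = i then (b : T.H X) else 0) =
      (Polynomial.aeval (T.pullDeg F j) R b : T.H X) := by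
    split_ifs with h
    · subst h; rw [hRi]; rfl
    · rw [hRj j h b]; rfl
  rw [hval]
  refine push_eq T q _ _ fun l y _ ↦ ?_
  show T.tr X ((Polynomial.aeval (T.pullDeg F j) R b : T.H X) * y) =
    T.tr P (T.pull p (b : T.H X) * (∑ m ∈ R.support, R.coeff m • T.cl P _) * T.pull q y)
  rw [Polynomial.aeval_eq_sum_range, Finset.mul_sum, Finset.sum_mul, map_sum]
  rw [← Polynomial.aeval_eq_sum_range, Polynomial.aeval_def, Polynomial.eval₂_eq_sum,
    Polynomial.sum, LinearMap.sum_apply, AddSubmonoidClass.coe_finsetSum, Finset.sum_mul, map_sum]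
  refine Finset.sum_congr rfl fun m _ ↦ ?_
  rw [Module.End.mul_apply, Module.algebraMap_end_apply, SetLike.val_smul, hpow, smul_mul_assoc,
    map_smul, mul_smul_comm, smul_mul_assoc, map_smul]
  congr 1
  rw [← mul_comm_of_even T (even_two_mul _) (hmem m) (T.pull p (b : T.H X)), mul_assoc,
    tr_cl_graph T (g m) q (hgq m), map_mul (T.pull (g m)), pull_pull, pull_pull, hgp, hgq, pull_id_apply]

end Groth.Agent.WeilLib
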