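import Groth.Prelude.Def_WeilCoh
import Mathlib.Algebra.Ring.NegOnePow

/-!
# Formal consequences of the axioms of a Weil cohomology theory
-/

universe u v w

set_option linter.style.haveILetI false

open CategoryTheory AlgebraicGeometry WeilCoh TensorProduct

namespace Groth.Agent.WeilLib

variable {k : Type u} [Field k] {P : ObjectProperty (Over (Spec (CommRingCat.of k)))}
variable {K : Type v} [Field K] (T : TheoryOn.{u, v, w} k P K)
variable {X Y Z Q : P.FullSubcategory}

set_option quotPrecheck false in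
/-- The dimension of an object, as an integer. -/
scoped notation:max "dZ " X:max => ((WeilCoh.dim ((ObjectProperty.FullSubcategory.obj X).left) : ℤ))

theorem linearMap_ext_gr {M : Type*} [AddCommMonoid M] [Module K M] {φ ψ : T.H X →ₗ[K] M}
    (h : ∀ i, ∀ a ∈ T.gr X i, φ a = ψ a) : φ = ψ := by
  refine LinearMap.ext_on (s := ⋃ i, (T.gr X i : Set (T.H X))) ?_ ?_
  · rw [← Submodule.iSup_eq_span, (T.decomp X).submodule_iSup_eq_top]
  · rintro a ⟨_, ⟨i, rfl⟩, ha⟩
    exact h i a ha

theorem eq_zero_of_out_of_range {i : ℤ} {a : T.H X} (ha : a ∈ T.gr X i)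
    (h : i < 0 ∨ 2 * dZ X < i) : a = 0 := by
  rw [T.vanish X i h] at ha
  exact ha

theorem mul_mem {i j : ℤ} {a b : T.H X} (ha : a ∈ T.gr X i) (hb : b ∈ T.gr X j) :
    a * b ∈ T.gr X (i + j) :=
  SetLike.mul_mem_graded ha hb

theorem tr_mul_eq_zero {i j : ℤ} {a b : T.H X} (ha : a ∈ T.gr X i) (hb : b ∈ T.gr X j)
    (h : i + j ≠ 2 * dZ X) : T.tr X (a * b) = 0 :=
  T.tr_vanish X _ _ (mul_mem T ha hb) h

/-- The component of an element in a given degree, seen by the pairing. -/
theorem eq_of_tr_mul {y z : T.H X} (h : ∀ j, ∀ b ∈ T.gr X j, T.tr X (y * b) = T.tr X (z * b)) :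
    y = z := by
  classical
  rw [← sub_eq_zero]
  obtain ⟨f, hf⟩ := (T.decomp X).surjective (y - z)
  have hzero : ∀ i, f i = 0 := by
    intro i
    have hpp := T.duality X i (2 * dZ X - i) (by ring)
    refine hpp.bijective_left.injective ?_
    rw [map_zero]
    ext b
    show T.tr X ((f i : T.H X) * (b : T.H X)) = 0
    have hsum : T.tr X ((y - z) * (b : T.H X)) = T.tr X ((f i : T.H X) * (b : T.H X)) := by
      rw [← hf, DirectSum.coeAddMonoidHom_eq_dfinsuppSum, DFinsupp.sum, Finset.sum_mul, map_sum]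
      refine Finset.sum_eq_single i (fun j _ hji ↦ ?_) fun hi ↦ ?_
      · exact tr_mul_eq_zero T (f j).2 b.2 (by omega)
      · simp [DFinsupp.notMem_support_iff.mp hi]
    rw [← hsum, sub_mul, map_sub, h _ _ b.2, sub_self]
  rw [← hf, show f = 0 from DFinsupp.ext hzero, map_zero]

theorem eq_of_tr_mul' {y z : T.H X} (h : ∀ b, T.tr X (y * b) = T.tr X (z * b)) : y = z :=
  eq_of_tr_mul T fun _ b _ ↦ h b

/-- The sign of a degree. -/
noncomputable abbrev sgn (K : Type v) [Field K] (i : ℤ) : K := (-1 : K) ^ i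

theorem neg_one_pow_natAbs_mul (i j : ℤ) :
    (-1 : K) ^ (i.natAbs * j.natAbs) = sgn K (i * j) := by
  rw [← Int.natAbs_mul, ← zpow_natCast, sgn]
  rcases Int.natAbs_eq (i * j) with h | h
  · conv_rhs => rw [h]
  · conv_rhs => rw [h]
    rw [zpow_neg, ← inv_zpow, inv_neg, inv_one]

theorem mul_comm_gr {i j : ℤ} {a b : T.H X} (ha : a ∈ T.gr X i) (hb : b ∈ T.gr X j) :
    a * b = sgn K (i * j) • (b * a) := by
  rw [← neg_one_pow_natAbs_mul]
  exact T.gradedComm X i j a b ha hb

theorem sgn_eq_of_even {i j : ℤ} (h : Even (i - j)) : sgn K i = sgn K j := by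
  rw [sgn, show i = (i - j) + j by ring, zpow_add₀ (by norm_num), h.neg_one_zpow, one_mul]

theorem sgn_mul_self (i : ℤ) : sgn K i * sgn K i = 1 := by
  rw [sgn, ← zpow_add₀ (by norm_num : (-1 : K) ≠ 0), (Even.add_self i).neg_one_zpow]

theorem sgn_natCast (n : ℕ) : sgn K (n : ℤ) = (-1 : K) ^ n := zpow_natCast _ _

theorem mul_comm_of_even {i : ℤ} {a : T.H X} (hi : Even i) (ha : a ∈ T.gr X i) (b : T.H X) :
    a * b = b * a := by
  have : LinearMap.mulLeft K a = LinearMap.mulRight K a :=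
    linearMap_ext_gr T fun j b hb ↦ by
      show a * b = b * a
      rw [mul_comm_gr T ha hb, sgn, (hi.mul_right j).neg_one_zpow, one_smul]
  exact LinearMap.congr_fun this b

/-- Swapping under the trace costs the sign of the degree of either factor. -/
theorem tr_mul_comm {i : ℤ} {a : T.H X} (ha : a ∈ T.gr X i) (b : T.H X) :
    T.tr X (a * b) = sgn K i * T.tr X (b * a) := by
  have : T.tr X ∘ₗ LinearMap.mulLeft K a = sgn K i • (T.tr X ∘ₗ LinearMap.mulRight K a) :=
    linearMap_ext_gr T fun j b hb ↦ by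
      show T.tr X (a * b) = sgn K i • T.tr X (b * a)
      by_cases h : i + j = 2 * dZ X
      · rw [mul_comm_gr T ha hb, map_smul]
        congr 1
        refine sgn_eq_of_even ?_
        rw [show i * j - i = i * (2 * dZ X - i - 1) by rw [← h]; ring]
        rcases Int.even_or_odd i with he | ho
        · exact he.mul_right _
        · refine Even.mul_left ?_ i
          obtain ⟨c, rfl⟩ := ho
          exact ⟨dZ X - c - 1, by ring⟩
      · rw [tr_mul_eq_zero T ha hb h, tr_mul_eq_zero T hb ha (by omega), smul_zero]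
  exact LinearMap.congr_fun this b

theorem exists_tr_eq_one (X : P.FullSubcategory) :
    ∃ a ∈ T.gr X (2 * dZ X), T.tr X a = 1 := by
  obtain ⟨a, ha⟩ := (T.tr_bijective X).surjective 1
  exact ⟨a, a.2, ha⟩

include T in
theorem tr_prod_dim {p : Q ⟶ X} {q : Q ⟶ Y} (hQ : IsProd p q) : dZ Q = dZ X + dZ Y := by
  obtain ⟨a, ha, ha1⟩ := exists_tr_eq_one T X
  obtain ⟨b, hb, hb1⟩ := exists_tr_eq_one T Y
  have h := T.tr_prod p q hQ a b ha hb
  rw [ha1, hb1, one_mul] at h
  by_contra hne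
  rw [tr_mul_eq_zero T (T.pull_mem p _ a ha) (T.pull_mem q _ b hb) (by omega)] at h
  exact zero_ne_one h

/-- The trace of a product is multiplicative on all classes. -/
theorem tr_prod_all {p : Q ⟶ X} {q : Q ⟶ Y} (hQ : IsProd p q) (a : T.H X) (b : T.H Y) :
    T.tr Q (T.pull p a * T.pull q b) = T.tr X a * T.tr Y b := by
  have hd := tr_prod_dim T hQ
  have h1 : ∀ i, ∀ a ∈ T.gr X i,
      T.tr Q ∘ₗ LinearMap.mulLeft K (T.pull p a) ∘ₗ (T.pull q).toLinearMap = T.tr X a • T.tr Y :=
    fun i a ha ↦ linearMap_ext_gr T fun j b hb ↦ by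
      show T.tr Q (T.pull p a * T.pull q b) = T.tr X a • T.tr Y b
      rw [smul_eq_mul]
      by_cases hi : i = 2 * dZ X
      · by_cases hj : j = 2 * dZ Y
        · exact T.tr_prod p q hQ a b (hi ▸ ha) (hj ▸ hb)
        · rw [tr_mul_eq_zero T (T.pull_mem p _ a ha) (T.pull_mem q _ b hb) (by omega),
            T.tr_vanish Y j b hb hj, mul_zero]
      · rw [T.tr_vanish X i a ha hi, zero_mul]
        by_cases h : i + j = 2 * dZ Q
        · rcases lt_or_gt_of_ne hi with hlt | hgt
          · rw [eq_zero_of_out_of_range T hb (Or.inr (by omega)), map_zero, mul_zero, map_zero]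
          · rw [eq_zero_of_out_of_range T ha (Or.inr (by omega)), map_zero, zero_mul, map_zero]
        · exact tr_mul_eq_zero T (T.pull_mem p _ a ha) (T.pull_mem q _ b hb) h
  have h2 : T.tr Q ∘ₗ LinearMap.mulRight K (T.pull q b) ∘ₗ (T.pull p).toLinearMap =
      T.tr Y b • T.tr X :=
    linearMap_ext_gr T fun i a ha ↦ by
      show T.tr Q (T.pull p a * T.pull q b) = T.tr Y b • T.tr X a
      rw [smul_eq_mul, mul_comm]
      exact LinearMap.congr_fun (h1 i a ha) b
  exact (LinearMap.congr_fun h2 a).trans (mul_comm _ _)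

/-- Künneth: linear maps out of the cohomology of a product are determined on products of classes. -/
theorem linearMap_ext_prod {p : Q ⟶ X} {q : Q ⟶ Y} (hQ : IsProd p q) {M : Type*} [AddCommMonoid M]
    [Module K M] {φ ψ : T.H Q →ₗ[K] M}
    (h : ∀ i j, ∀ a ∈ T.gr X i, ∀ b ∈ T.gr Y j,
      φ (T.pull p a * T.pull q b) = ψ (T.pull p a * T.pull q b)) : φ = ψ := by
  refine LinearMap.ext fun z ↦ ?_
  obtain ⟨t, rfl⟩ := (T.kunneth p q hQ).surjective z
  suffices φ ∘ₗ kunnethMap K (T.pull p) (T.pull q) = ψ ∘ₗ kunnethMap K (T.pull p) (T.pull q) from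
    LinearMap.congr_fun this t
  refine TensorProduct.ext ?_
  refine linearMap_ext_gr T fun i a ha ↦ linearMap_ext_gr T fun j b hb ↦ ?_
  exact h i j a ha b hb

/-- Classes on a product are determined by their pairings with products of classes. -/
theorem eq_of_tr_mul_prod {p : Q ⟶ X} {q : Q ⟶ Y} (hQ : IsProd p q) {y z : T.H Q}
    (h : ∀ i j, ∀ a ∈ T.gr X i, ∀ b ∈ T.gr Y j,
      T.tr Q (y * (T.pull p a * T.pull q b)) = T.tr Q (z * (T.pull p a * T.pull q b))) : y = z :=
  eq_of_tr_mul' T fun w ↦ LinearMap.congr_fun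
    (linearMap_ext_prod T hQ (φ := T.tr Q ∘ₗ LinearMap.mulLeft K y)
      (ψ := T.tr Q ∘ₗ LinearMap.mulLeft K z) h) w

/-- The defining property of push-forward, for test classes of any degree. -/
theorem tr_push_mul (f : X ⟶ Y) (i : ℤ) (a : T.gr X i) (b : T.H Y) :
    T.tr Y ((T.push f i a : T.H Y) * b) = T.tr X ((a : T.H X) * T.pull f b) := by
  have : T.tr Y ∘ₗ LinearMap.mulLeft K (T.push f i a : T.H Y) =
      T.tr X ∘ₗ LinearMap.mulLeft K (a : T.H X) ∘ₗ (T.pull f).toLinearMap :=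
    linearMap_ext_gr T fun j b hb ↦ by
      show T.tr Y ((T.push f i a : T.H Y) * b) = T.tr X ((a : T.H X) * T.pull f b)
      by_cases hj : j = 2 * dZ X - i
      · subst hj
        haveI := T.duality Y (i + 2 * dZ Y - 2 * dZ X) (2 * dZ X - i) (by ring)
        have h := LinearMap.apply_symm_toPerfPair_self
          (p := pairing K (T.gr Y (i + 2 * dZ Y - 2 * dZ X)) (T.gr Y (2 * dZ X - i)) (T.tr Y))
          (T.pushFunctional f i a)
        exact LinearMap.congr_fun h ⟨b, hb⟩
      · rw [tr_mul_eq_zero T (T.push f i a).2 hb (by omega),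
          tr_mul_eq_zero T a.2 (T.pull_mem f j b hb) (by omega)]
  exact LinearMap.congr_fun this b

theorem push_eq (f : X ⟶ Y) (i : ℤ) (a : T.gr X i) {y : T.H Y}
    (h : ∀ j, ∀ b ∈ T.gr Y j, T.tr Y (y * b) = T.tr X ((a : T.H X) * T.pull f b)) :
    (T.push f i a : T.H Y) = y :=
  eq_of_tr_mul T fun j b hb ↦ (tr_push_mul T f i a b).trans (h j b hb).symm

theorem pullDeg_coe (f : X ⟶ Y) (i : ℤ) (a : T.gr Y i) :
    (T.pullDeg f i a : T.H X) = T.pull f (a : T.H Y) := rfl

theorem pull_pull (f : X ⟶ Y) (g : Y ⟶ Z) (a : T.H Z) :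
    T.pull f (T.pull g a) = T.pull (f ≫ g) a := by
  rw [T.pull_comp]; rfl

theorem pull_id_apply (a : T.H X) : T.pull (𝟙 X) a = a := by rw [T.pull_id]; rfl

theorem pull_pull_eq_self {f : X ⟶ Y} {g : Y ⟶ X} (h : f ≫ g = 𝟙 X) (a : T.H X) :
    T.pull f (T.pull g a) = a := by
  rw [pull_pull, h, pull_id_apply]

end Groth.Agent.WeilLib
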