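import Groth.Agent.WeilLib.Basic
import Groth.Agent.WeilLib.Trdeg
import Groth.Agent.ProjMor.ProjSpaceBase
import Mathlib.AlgebraicGeometry.Morphisms.Finite

/-!
# The point, rational points, and classes under the push-forward identity
-/

universe u v w

set_option backward.isDefEq.respectTransparency false
set_option linter.style.haveILetI false
set_option linter.unusedSectionVars false

open CategoryTheory CategoryTheory.Limits AlgebraicGeometry WeilCoh

namespace Groth.Agent.WeilLib

variable {k : Type u} [Field k]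

theorem isVar_point : IsVar k (Over.mk (𝟙 (Spec (CommRingCat.of k)))) := by
  refine ⟨inferInstanceAs (Smooth (𝟙 (Spec (CommRingCat.of k)))), ?_,
    inferInstanceAs (IrreducibleSpace (PrimeSpectrum k))⟩
  have : IsIso (CohB1.ProjSpace.toSpec 0 (ULift.{u} ℤ)) := ProjMor.isIso_toSpec_zero _
  have : IsIso (CohB1.ProjSpaceOver.toBase 0 (Spec (CommRingCat.of k))) := by
    unfold CohB1.ProjSpaceOver.toBase
    infer_instance
  exact ⟨0, inv (CohB1.ProjSpaceOver.toBase 0 (Spec (CommRingCat.of k))), inferInstance,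
    IsIso.inv_hom_id _⟩

/-- The point `Spec k`. -/
noncomputable def ptVar (k : Type u) [Field k] : Var k :=
  ⟨Over.mk (𝟙 (Spec (CommRingCat.of k))), isVar_point⟩

/-- The structure morphism, as a morphism to the point. -/
noncomputable def toPt (X : Var k) : X ⟶ ptVar k :=
  ObjectProperty.homMk (Over.homMk X.obj.hom (Category.comp_id _))

instance (X : Var k) : IrreducibleSpace ↥X.obj.left := X.property.2.2
instance (X : Var k) : Smooth X.obj.hom := X.property.1
instance : Subsingleton ↥(ptVar k).obj.left := inferInstanceAs (Subsingleton (PrimeSpectrum k))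

theorem sm_w {X Y : Var k} (f : X ⟶ Y) : sm f ≫ Y.obj.hom = X.obj.hom := Over.w f.hom

theorem sm_comp_apply {X Y Z : Var k} (f : X ⟶ Y) (g : Y ⟶ Z) (x : X.obj.left) :
    sm (f ≫ g) x = sm g (sm f x) := rfl

theorem pdim_genericPoint (X : Var k) :
    pdim X.obj.left (genericPoint ↥X.obj.left) = dim X.obj.left := by
  rw [pdim, genericPoint_closure]
  exact BMCoh.natDim_eq_of_homeomorph (Homeomorph.Set.univ _)

theorem pdim_le_dim (X : Var k) (x : X.obj.left) : pdim X.obj.left x ≤ dim X.obj.left := by
  rw [← pdim_genericPoint]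
  exact pdim_le X.obj.hom ((genericPoint_spec _).specializes trivial)

theorem codim_add_pdim (X : Var k) (x : X.obj.left) :
    codim X.obj.left x + pdim X.obj.left x = dim X.obj.left :=
  Nat.sub_add_cancel (pdim_le_dim X x)

theorem codim_genericPoint (X : Var k) :
    codim X.obj.left (genericPoint ↥X.obj.left) = 0 := by
  rw [codim, pdim_genericPoint, Nat.sub_self]

theorem dim_pt : dim (ptVar k).obj.left = 0 := by
  rw [← pdim_genericPoint]
  exact (pdim_eq_zero_iff (ptVar k).obj.hom _).mpr (Set.subsingleton_singleton.isClosed)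

theorem residueDegree_eq_one_of_comp_eq_id {X Q : Scheme.{u}} (j : X ⟶ Q) (p : Q ⟶ X)
    (h : j ≫ p = 𝟙 X) (x : X) : j.residueDegree x = 1 := by
  have key : ∀ (g : X ⟶ X), g = 𝟙 X → Function.Surjective (g.residueFieldMap x) := by
    rintro _ rfl
    rw [Scheme.residueFieldMap_id]
    exact fun a ↦ ⟨a, rfl⟩
  have hs : Function.Surjective (j.residueFieldMap x) := by
    have h1 := key (j ≫ p) h
    rw [Scheme.residueFieldMap_comp] at h1
    exact fun a ↦ (h1 a).elim fun b hb ↦ ⟨p.residueFieldMap (j x) b, hb⟩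
  letI := (j.residueFieldMap x).hom.toAlgebra
  exact Module.finrank_eq_of_rank_eq (n := 1) (by
    rw [← (LinearEquiv.ofBijective (Algebra.linearMap (Q.residueField (j x)) (X.residueField x))
      ⟨(algebraMap (Q.residueField (j x)) (X.residueField x)).injective, hs⟩).rank_eq]
    simp)

variable [IsAlgClosed k]

/-- Closed points of an object are images of sections of the structure map. -/
theorem exists_section (X : Var k) {x : X.obj.left} (hx : IsClosed ({x} : Set X.obj.left)) :
    ∃ s : ptVar k ⟶ X, ∀ p, sm s p = x := by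
  haveI : IsClosedImmersion (X.obj.left.fromSpecResidueField x) :=
    isClosed_singleton_iff_isClosedImmersion.mp hx
  let σ := Spec.preimage (X.obj.left.fromSpecResidueField x ≫ X.obj.hom)
  have hσ : Spec.map σ = X.obj.left.fromSpecResidueField x ≫ X.obj.hom := Spec.map_preimage _
  have hft : LocallyOfFiniteType (Spec.map σ) := by rw [hσ]; infer_instance
  have hft' : σ.hom.FiniteType := (HasRingHomProperty.Spec_iff (P := @LocallyOfFiniteType)).mp hft
  letI := σ.hom.toAlgebra
  haveI : Algebra.FiniteType k (X.obj.left.residueField x) := hft'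
  haveI : Module.Finite k (X.obj.left.residueField x) := finite_of_finite_type_of_isJacobsonRing _ _
  have hbij : Function.Bijective σ.hom :=
    IsAlgClosed.algebraMap_bijective_of_isIntegral (k := k) (K := X.obj.left.residueField x)
  haveI : IsIso σ := (ConcreteCategory.isIso_iff_bijective σ).mpr hbij
  refine ⟨ObjectProperty.homMk (Over.homMk (Spec.map (inv σ) ≫ X.obj.left.fromSpecResidueField x) ?_),
    fun p ↦ ?_⟩
  · rw [Category.assoc, ← hσ, ← Spec.map_comp, IsIso.hom_inv_id, Spec.map_id]
    rfl
  · have : X.obj.left.fromSpecResidueField x (Spec.map (inv σ) p) ∈ ({x} : Set X.obj.left) := by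
      rw [← X.obj.left.range_fromSpecResidueField x]
      exact ⟨_, rfl⟩
    exact this

theorem exists_isClosed_singleton (X : Var k) :
    ∃ x : X.obj.left, IsClosed ({x} : Set X.obj.left) := by
  haveI : JacobsonSpace ↥X.obj.left := LocallyOfFiniteType.jacobsonSpace X.obj.hom
  have h := closure_closedPoints (X := ↥X.obj.left)
  by_contra hne
  push Not at hne
  rw [show closedPoints ↥X.obj.left = ∅ from Set.eq_empty_of_forall_notMem fun x hx ↦ hne x hx,
    closure_empty] at h
  exact absurd h.symm (Set.univ_nonempty.ne_empty)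

section Theory

variable {K : Type v} [Field K] [CharZero K] (T : Theory k K)

theorem one_ne_zero' (X : Var k) : (1 : T.H X) ≠ 0 := by
  intro h
  obtain ⟨a, -, ha⟩ := exists_tr_eq_one T X
  rw [← one_mul a, h, zero_mul, map_zero] at ha
  exact zero_ne_one ha

theorem finrank_gr_zero (X : Var k) : Module.finrank K (T.gr X 0) = 1 := by
  haveI := T.duality X 0 (2 * dZ X) (by ring)
  rw [(pairing K (T.gr X 0) (T.gr X (2 * dZ X)) (T.tr X)).toPerfPair.finrank_eq,
    Subspace.dual_finrank_eq,
    (LinearEquiv.ofBijective _ (T.tr_bijective X)).finrank_eq, Module.finrank_self]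

theorem exists_eq_smul_one (X : Var k) {a : T.H X} (ha : a ∈ T.gr X 0) :
    ∃ c : K, a = c • (1 : T.H X) := by
  obtain ⟨c, hc⟩ := (finrank_eq_one_iff_of_nonzero' (⟨1, SetLike.one_mem_graded (T.gr X)⟩ : T.gr X 0)
    (fun h ↦ one_ne_zero' T X (congrArg Subtype.val h))).mp (finrank_gr_zero T X) ⟨a, ha⟩
  exact ⟨c, (congrArg Subtype.val hc).symm⟩

/-- The push-forward identity, for test classes of every degree. -/
theorem tr_cl_mul_pull {X Y : Var k} (f : X ⟶ Y) (ξ : X.obj.left) (b : T.H Y) :
    T.tr X (T.cl X ξ * T.pull f b) =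
      ((sm f).residueDegree ξ : K) * T.tr Y (T.cl Y (sm f ξ) * b) := by
  have : T.tr X ∘ₗ LinearMap.mulLeft K (T.cl X ξ) ∘ₗ (T.pull f).toLinearMap =
      ((sm f).residueDegree ξ : K) • (T.tr Y ∘ₗ LinearMap.mulLeft K (T.cl Y (sm f ξ))) := by
    refine linearMap_ext_gr T fun j b hb ↦ ?_
    show T.tr X (T.cl X ξ * T.pull f b) =
      ((sm f).residueDegree ξ : K) • T.tr Y (T.cl Y (sm f ξ) * b)
    rw [smul_eq_mul]
    by_cases hj : j = 2 * (pdim X.obj.left ξ : ℤ)
    · subst hj
      exact T.cl_push f ξ b hb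
    · have hX := codim_add_pdim X ξ
      rw [tr_mul_eq_zero T (T.cl_mem X ξ) (T.pull_mem f j b hb) (by omega)]
      by_cases hd : (sm f).residueDegree ξ = 0
      · rw [hd, Nat.cast_zero, zero_mul]
      · have hY := codim_add_pdim Y (sm f ξ)
        have hp := pdim_eq_of_residueDegree_ne_zero X.obj.hom (sm f) Y.obj.hom (sm_w f) hd
        rw [tr_mul_eq_zero T (T.cl_mem Y (sm f ξ)) hb (by omega), mul_zero]
  exact LinearMap.congr_fun this b

omit [IsAlgClosed k] in
theorem preimMult_section {X : Var k} (s : ptVar k ⟶ X) (η : X.obj.left) (w : (ptVar k).obj.left)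
    (h : sm s w ∈ closure ({η} : Set X.obj.left)) : preimMult (sm s) η w h = 1 := by
  haveI : IsIntegral (ptVar k).obj.left := inferInstanceAs (IsIntegral (Spec (CommRingCat.of k)))
  obtain rfl : w = genericPoint _ := Subsingleton.elim _ _
  have hfld : IsField ((ptVar k).obj.left.presheaf.stalk (genericPoint _)) :=
    Field.toIsField (ptVar k).obj.left.functionField
  let R := (ptVar k).obj.left.presheaf.stalk (genericPoint ↥(ptVar k).obj.left)
  let J := Ideal.map ((sm s).stalkMap (genericPoint _)).hom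
    (RingHom.ker (Cyc.specMap (sm s (genericPoint _)) η (specializes_iff_mem_closure.mpr h)))
  have hmax : (⊥ : Ideal R).IsMaximal := by
    rw [← IsLocalRing.isField_iff_maximalIdeal_eq.mp hfld]
    infer_instance
  have hJ : J = ⊥ := by
    rw [← le_bot_iff, ← IsLocalRing.isField_iff_maximalIdeal_eq.mp hfld, Ideal.map_le_iff_le_comap,
      IsLocalRing.maximalIdeal_comap]
    exact IsLocalRing.le_maximalIdeal (RingHom.ker_isPrime _).ne_top
  haveI : IsSimpleModule R (R ⧸ J) := by
    rw [isSimpleModule_iff_isCoatom, hJ]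
    exact Ideal.isMaximal_def.mp hmax
  show (Module.length R (R ⧸ J)).toNat = 1
  rw [Module.length_eq_one]
  rfl

/-- The class of the whole space is `1`. -/
theorem cl_genericPoint (X : Var k) : T.cl X (genericPoint ↥X.obj.left) = 1 := by
  obtain ⟨x, hx⟩ := exists_isClosed_singleton X
  obtain ⟨s, hs⟩ := exists_section X hx
  let p₀ : (ptVar k).obj.left := genericPoint _
  have huniv : closure ({genericPoint ↥X.obj.left} : Set X.obj.left) = Set.univ :=
    genericPoint_closure _
  have hcomp : ∀ w, IsCompPt ((sm s) ⁻¹' closure ({genericPoint ↥X.obj.left} : Set X.obj.left)) w :=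
    fun w ↦ ⟨by rw [huniv]; trivial, fun w' _ _ ↦ Subsingleton.elim _ _⟩
  have hpull := T.cl_pull s (genericPoint ↥X.obj.left)
    (fun w _ ↦ by
      rw [pdim_genericPoint, dim_pt, show pdim (ptVar k).obj.left w = 0 from
        (pdim_eq_zero_iff (ptVar k).obj.hom w).mpr (Set.subsingleton_singleton.isClosed)]
      omega)
    (Or.inr fun w hw ↦ preimMult_section s _ w hw.1)
  have hpt := (T.point (ptVar k) dim_pt).1
  haveI : Unique {w : (ptVar k).obj.left //
      IsCompPt ((sm s) ⁻¹' closure ({genericPoint ↥X.obj.left} : Set X.obj.left)) w} :=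
    ⟨⟨⟨p₀, hcomp p₀⟩⟩, fun _ ↦ Subsingleton.elim _ _⟩
  rw [finsum_unique, preimMult_section, Nat.cast_one, one_smul, hpt] at hpull
  obtain ⟨c, hc⟩ := exists_eq_smul_one T X
    (by simpa [codim_genericPoint] using T.cl_mem X (genericPoint ↥X.obj.left))
  rw [hc, map_smul, map_one] at hpull
  have hc1 : c = 1 := by
    have h1 := congrArg (T.tr (ptVar k)) hpull
    rwa [map_smul, (T.point (ptVar k) dim_pt).2, smul_eq_mul, mul_one] at h1
  rw [hc, hc1, one_smul]

theorem tr_cl_closedPoint (X : Var k) {x : X.obj.left} (hx : IsClosed ({x} : Set X.obj.left)) :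
    T.tr X (T.cl X x) = 1 := by
  obtain ⟨s, hs⟩ := exists_section X hx
  let p₀ : (ptVar k).obj.left := genericPoint _
  have h := tr_cl_mul_pull T s p₀ 1
  rw [map_one, mul_one, (T.point (ptVar k) dim_pt).1, (T.point (ptVar k) dim_pt).2,
    residueDegree_eq_one_of_comp_eq_id (sm s) X.obj.hom (sm_w s), Nat.cast_one, one_mul,
    mul_one, hs] at h
  exact h.symm

/-- The class of the image under a section, paired with any class. -/
theorem tr_cl_section {X Q : Var k} (j : X ⟶ Q) (p : Q ⟶ X) (h : j ≫ p = 𝟙 X) (ξ : X.obj.left)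
    (z : T.H Q) : T.tr Q (T.cl Q (sm j ξ) * z) = T.tr X (T.cl X ξ * T.pull j z) := by
  rw [tr_cl_mul_pull, residueDegree_eq_one_of_comp_eq_id (sm j) (sm p)
    (by rw [← show sm (j ≫ p) = sm j ≫ sm p from rfl, h]; rfl), Nat.cast_one, one_mul]

end Theory

end Groth.Agent.WeilLib
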